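import Mathlib.FieldTheory.Finite.Basic
import Mathlib.GroupTheory.SpecificGroups.Cyclic
import Mathlib.FieldTheory.Finite.GaloisField

/-!
The involution `x ↦ x ^ q` of a field with `q ^ 2` elements: fixed units, norm-one units, surjectivity
of the norm.
-/

set_option autoImplicit false

namespace CfsgLib.Classical.Herm

variable {F : Type*} [Field F] [Fintype F] {q : ℕ}

theorem two_le_of_card (hF : Fintype.card F = q ^ 2) : 2 ≤ q := by
  have h := Fintype.one_lt_card (α := F)
  rw [hF] at h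
  by_contra hc
  interval_cases q <;> simp at h

theorem exists_charP_pow (hF : Fintype.card F = q ^ 2) :
    ∃ (p k : ℕ), p.Prime ∧ CharP F p ∧ q = p ^ k := by
  obtain ⟨p, hp⟩ := CharP.exists F
  obtain ⟨n, hprime, hn⟩ := FiniteField.card F p
  have hd : q ∣ p ^ (n : ℕ) := ⟨q, by rw [← hn, hF, pow_two]⟩
  obtain ⟨k, -, hk⟩ := (Nat.dvd_prime_pow hprime).1 hd
  exact ⟨p, k, hprime, hp, hk⟩

/-- `x ↦ x ^ q` as a ring endomorphism. -/
def qPow (hF : Fintype.card F = q ^ 2) : F →+* F where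
  toFun x := x ^ q
  map_one' := one_pow q
  map_mul' x y := mul_pow x y q
  map_zero' := zero_pow (by have := two_le_of_card hF; omega)
  map_add' x y := by
    obtain ⟨p, k, hp, hc, rfl⟩ := exists_charP_pow hF
    haveI := Fact.mk hp
    haveI := hc
    exact add_pow_char_pow x y p k

@[simp] theorem qPow_apply (hF : Fintype.card F = q ^ 2) (x : F) : qPow hF x = x ^ q := rfl

theorem qPow_qPow (hF : Fintype.card F = q ^ 2) (x : F) : qPow hF (qPow hF x) = x := by
  rw [qPow_apply, qPow_apply, ← pow_mul, ← pow_two, ← hF, FiniteField.pow_card]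

theorem natCard_units_sq (hF : Fintype.card F = q ^ 2) : Nat.card Fˣ = (q - 1) * (q + 1) := by
  rw [Nat.card_units, Nat.card_eq_fintype_card (α := F), hF, mul_comm, ← Nat.sq_sub_sq]

theorem card_ker_pow (hF : Fintype.card F = q ^ 2) (d : ℕ) :
    Nat.card (powMonoidHom d : Fˣ →* Fˣ).ker = Nat.gcd ((q - 1) * (q + 1)) d := by
  rw [IsCyclic.card_powMonoidHom_ker, natCard_units_sq hF]

/-- The fixed units form a subgroup of order `q - 1`. -/
theorem card_fixed_units (hF : Fintype.card F = q ^ 2) :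
    Nat.card (powMonoidHom (q - 1) : Fˣ →* Fˣ).ker = q - 1 := by
  rw [card_ker_pow hF, Nat.gcd_eq_right (dvd_mul_right _ _)]

/-- The norm-one units form a subgroup of order `q + 1`. -/
theorem card_normOne_units (hF : Fintype.card F = q ^ 2) :
    Nat.card (powMonoidHom (q + 1) : Fˣ →* Fˣ).ker = q + 1 := by
  rw [card_ker_pow hF, Nat.gcd_eq_right (dvd_mul_left _ _)]

theorem range_norm_eq (hF : Fintype.card F = q ^ 2) :
    (powMonoidHom (q + 1) : Fˣ →* Fˣ).range = (powMonoidHom (q - 1) : Fˣ →* Fˣ).ker := by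
  have hle : (powMonoidHom (q + 1) : Fˣ →* Fˣ).range ≤ (powMonoidHom (q - 1) : Fˣ →* Fˣ).ker := by
    rintro _ ⟨u, rfl⟩
    rw [MonoidHom.mem_ker, powMonoidHom_apply, powMonoidHom_apply, ← pow_mul,
      show (q + 1) * (q - 1) = Nat.card Fˣ by rw [natCard_units_sq hF, mul_comm], pow_card_eq_one']
  refine Subgroup.eq_of_le_of_card_ge hle (le_of_eq ?_)
  rw [card_fixed_units hF, IsCyclic.card_powMonoidHom_range, natCard_units_sq hF,
    Nat.gcd_eq_right (dvd_mul_left _ _), Nat.mul_div_cancel _ (Nat.succ_pos q)]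

theorem qPow_fixed_unit_iff (hF : Fintype.card F = q ^ 2) (u : Fˣ) :
    qPow hF u = u ↔ u ∈ (powMonoidHom (q - 1) : Fˣ →* Fˣ).ker := by
  have hq := two_le_of_card hF
  rw [MonoidHom.mem_ker, powMonoidHom_apply, qPow_apply, ← Units.val_pow_eq_pow_val, Units.val_inj]
  conv_lhs => rw [show q = q - 1 + 1 by omega, pow_succ, mul_eq_right]

theorem exists_qPow_ne (hF : Fintype.card F = q ^ 2) : ∃ a, qPow hF a ≠ a := by
  by_contra hcon
  push Not at hcon
  have htop : (powMonoidHom (q - 1) : Fˣ →* Fˣ).ker = ⊤ :=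
    eq_top_iff.2 fun u _ => (qPow_fixed_unit_iff hF u).1 (hcon u)
  have h := card_fixed_units hF
  rw [htop, Subgroup.card_top, natCard_units_sq hF] at h
  have hq := two_le_of_card hF
  have h2 : (q - 1) * 1 < (q - 1) * (q + 1) := Nat.mul_lt_mul_of_pos_left (by omega) (by omega)
  omega

theorem exists_norm_eq (hF : Fintype.card F = q ^ 2) (c : F) (hc : qPow hF c = c) :
    ∃ t, t * qPow hF t = c := by
  by_cases h0 : c = 0
  · exact ⟨0, by simp [h0]⟩
  · have hmem := (qPow_fixed_unit_iff hF (Units.mk0 c h0)).1 hc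
    rw [← range_norm_eq hF] at hmem
    obtain ⟨u, hu⟩ := hmem
    refine ⟨u, ?_⟩
    have h := congrArg Units.val hu
    rw [powMonoidHom_apply, Units.val_pow_eq_pow_val, Units.val_mk0] at h
    rw [qPow_apply, ← h, pow_succ']

end CfsgLib.Classical.Herm
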