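import Cfsg.Agent.Lib.Classical.Herm.Simple
import Cfsg.Agent.Lib.Classical.Herm.Field
import Cfsg.Prelude.Def_Classical
import Cfsg.Prelude.Def_LieClassical
import Cfsg.Prelude.Def_ClassicalGeometry

/-!
The standard Hermitian space on `F^n`, `|F| = q^2`: bridges to `Cfsg.GU`, `Cfsg.SU`, level counts
and group orders.
-/

set_option autoImplicit false

namespace CfsgLib.Classical.Herm

open Module HermSpace

variable {F : Type*} [Field F] [Fintype F] {q : ℕ}

/-- The standard Hermitian space. -/
def stdHerm (hF : Fintype.card F = q ^ 2) (n : ℕ) : HermSpace F (Fin n → F) where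
  h := Cfsg.hermForm n F q
  conj := qPow hF
  conj_conj := qPow_qPow hF
  conj_ne := exists_qPow_ne hF
  norm_surj := exists_norm_eq hF
  add_left x y z := by simp [Cfsg.hermForm, add_mul, Finset.sum_add_distrib]
  smul_left c x y := by simp [Cfsg.hermForm, Finset.mul_sum, mul_assoc]
  symm' x y := by
    rw [Cfsg.hermForm, Cfsg.hermForm, map_sum]
    refine Finset.sum_congr rfl fun i _ => ?_
    have h := qPow_qPow hF (y i)
    rw [qPow_apply, qPow_apply] at h
    rw [map_mul, qPow_apply, qPow_apply, h, mul_comm]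
  nondeg x hx := funext fun i => by
    have hq : q ≠ 0 := by have := two_le_of_card hF; omega
    have h := hx (Pi.single i 1)
    rw [Cfsg.hermForm, Finset.sum_eq_single i (fun j _ hj => by simp [hj, zero_pow hq]) (by simp)] at h
    simpa using h

@[simp] theorem stdHerm_h (hF : Fintype.card F = q ^ 2) {n : ℕ} (x y : Fin n → F) :
    (stdHerm hF n).h x y = Cfsg.hermForm n F q x y := rfl

@[simp] theorem stdHerm_conj (hF : Fintype.card F = q ^ 2) (n : ℕ) (x : F) :
    (stdHerm hF n).conj x = x ^ q := rfl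

/-! ### Bridges -/

/-- `Cfsg.GU` as the unitary group of the standard space. -/
noncomputable def guEquiv (hF : Fintype.card F = q ^ 2) (n : ℕ) :
    Cfsg.GU n F q ≃* Unit' (stdHerm hF n) where
  toFun g := ⟨(Matrix.GeneralLinearGroup.toLin g.1).toLinearEquiv, fun x y => by
    simpa using g.2 x y⟩
  invFun g := ⟨Matrix.GeneralLinearGroup.toLin.symm (LinearMap.GeneralLinearGroup.ofLinearEquiv g.1),
    fun x y => by
      have h : ∀ (A : Matrix.GeneralLinearGroup (Fin n) F) u, (A : Matrix (Fin n) (Fin n) F).mulVec u =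
          (Matrix.GeneralLinearGroup.toLin A : (Fin n → F) →ₗ[F] Fin n → F) u := fun A u => by simp
      show Cfsg.hermForm n F q (Matrix.mulVec _ x) (Matrix.mulVec _ y) = _
      rw [Units.coeHom_apply, h, h, MulEquiv.apply_symm_apply]
      exact unit_h g x y⟩
  left_inv g := by
    apply Subtype.ext
    apply Matrix.GeneralLinearGroup.toLin.injective
    simp
    rfl
  right_inv g := unit_ext fun x => by simp
  map_mul' g g' := unit_ext fun x => by simp

theorem guEquiv_apply (hF : Fintype.card F = q ^ 2) (n : ℕ) (g : Cfsg.GU n F q) (x : Fin n → F) :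
    (guEquiv hF n g).1 x = ((g.1 : Matrix (Fin n) (Fin n) F)).mulVec x := by
  simp [guEquiv]

theorem detHom_guEquiv (hF : Fintype.card F = q ^ 2) (n : ℕ) (g : Cfsg.GU n F q) :
    detHom (stdHerm hF n) (guEquiv hF n g) = Matrix.GeneralLinearGroup.det g.1 := by
  apply Units.ext
  show (LinearEquiv.det (guEquiv hF n g).1 : F) = _
  rw [LinearEquiv.coe_det,
    show ((guEquiv hF n g).1 : (Fin n → F) →ₗ[F] Fin n → F) = Matrix.toLin' (g.1 : Matrix (Fin n) (Fin n) F)
      from LinearMap.ext fun x => by simp [guEquiv_apply],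
    LinearMap.det_toLin']
  rfl

/-- The inclusion of `Cfsg.SU` in `Cfsg.GU`. -/
def suToGU (n : ℕ) (F : Type*) [Field F] (q : ℕ) : Cfsg.SU n F q →* Cfsg.GU n F q where
  toFun s := ⟨Matrix.SpecialLinearGroup.toGL s.1, s.2⟩
  map_one' := Subtype.ext (map_one _)
  map_mul' a b := Subtype.ext (map_mul _ _ _)

/-- `Cfsg.SU` as the isometries of determinant one. -/
noncomputable def suEquiv (hF : Fintype.card F = q ^ 2) (n : ℕ) :
    Cfsg.SU n F q ≃* (detHom (stdHerm hF n)).ker where
  toFun s := ⟨guEquiv hF n (suToGU n F q s), by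
    rw [MonoidHom.mem_ker, detHom_guEquiv]
    exact Units.ext (by simp [suToGU])⟩
  invFun k := ⟨⟨((guEquiv hF n).symm k.1).1.1, by
      have h := k.2
      rw [MonoidHom.mem_ker, ← (guEquiv hF n).apply_symm_apply k.1, detHom_guEquiv] at h
      exact congrArg Units.val h⟩,
    ((guEquiv hF n).symm k.1).2⟩
  left_inv s := by
    apply Subtype.ext
    apply Subtype.ext
    simp [suToGU]
  right_inv k := by
    apply Subtype.ext
    show guEquiv hF n _ = k.1
    rw [← MulEquiv.eq_symm_apply]
    exact Subtype.ext (Units.ext rfl)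
  map_mul' a b := Subtype.ext (by simp [map_mul])

theorem suEquiv_apply (hF : Fintype.card F = q ^ 2) (n : ℕ) (s : Cfsg.SU n F q) (x : Fin n → F) :
    (suEquiv hF n s).1.1 x = ((s.1 : Matrix (Fin n) (Fin n) F)).mulVec x :=
  guEquiv_apply hF n _ x

/-! ### Hypotheses for the structure theorems -/

theorem big_std (hF : Fintype.card F = q ^ 2) {n : ℕ} (hn : 3 ≤ n) : Big (stdHerm hF n) :=
  big_of_finrank (by simpa using hn)

theorem perfectable_std (hF : Fintype.card F = q ^ 2) {n : ℕ} (hn : 3 ≤ n) (h : ¬ (n = 3 ∧ q = 2)) :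
    Perfectable (stdHerm hF n) := by
  by_cases hn3 : n = 3
  · left
    by_contra hcon
    push Not at hcon
    have hq := two_le_of_card hF
    have hq3 : 3 ≤ q := by omega
    have htop : (powMonoidHom (2 * q - 1) : Fˣ →* Fˣ).ker = ⊤ := by
      rw [eq_top_iff]
      intro u _
      have h1 := hcon u u.ne_zero
      rw [stdHerm_conj] at h1
      rw [MonoidHom.mem_ker, powMonoidHom_apply]
      apply Units.ext
      rw [Units.val_pow_eq_pow_val, Units.val_one]
      refine mul_right_cancel₀ u.ne_zero ?_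
      rw [one_mul, ← pow_succ, show 2 * q - 1 + 1 = q + q by omega, pow_add, h1]
    have h2 := card_ker_pow hF (2 * q - 1)
    rw [htop, Subgroup.card_top, natCard_units_sq hF] at h2
    have h3 := Nat.le_of_dvd (by omega) (Nat.gcd_dvd_right ((q - 1) * (q + 1)) (2 * q - 1))
    rw [← h2] at h3
    have h4 : (q - 1) * (q + 1) + 1 = q * q := by
      obtain ⟨k, rfl⟩ : ∃ k, q = k + 1 := ⟨q - 1, by omega⟩
      rw [Nat.add_sub_cancel]
      ring
    have h5 : 3 * q ≤ q * q := Nat.mul_le_mul_right q hq3
    omega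
  · exact perfectable_of_finrank (by simpa using (show 4 ≤ n by omega))

theorem exists_pair_std (hF : Fintype.card F = q ^ 2) {n : ℕ} (hn : 3 ≤ n) :
    ∃ e f : Fin n → F, IsHPair (stdHerm hF n) e f := by
  have hq : q ≠ 0 := by have := two_le_of_card hF; omega
  set v : Fin n → F := Pi.single ⟨0, by omega⟩ 1
  have hv : (stdHerm hF n).h v v = 1 := by
    rw [stdHerm_h, Cfsg.hermForm, Finset.sum_eq_single (⟨0, by omega⟩ : Fin n)
      (fun j _ hj => by simp [v, hj]) (by simp)]
    simp [v]
  obtain ⟨t, ht⟩ := (stdHerm hF n).exists_trace_one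
  obtain ⟨u, z, p, -⟩ := exists_pair_of_nonisotropic (big_std hF hn) (by rw [hv]; exact one_ne_zero)
    (s := t) (by rw [hv, ht])
  exact ⟨u, z, p⟩

theorem rootGen_std (hF : Fintype.card F = q ^ 2) {n : ℕ} (hn : 3 ≤ n) :
    rootGen (stdHerm hF n) = (detHom (stdHerm hF n)).ker := by
  obtain ⟨e, f, p⟩ := exists_pair_std hF hn
  exact rootGen_eq_ker_det (big_std hF hn) p

/-- `Cfsg.SU` as the root group, for `n ≥ 3`. -/
noncomputable def suEquivRoot (hF : Fintype.card F = q ^ 2) {n : ℕ} (hn : 3 ≤ n) :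
    Cfsg.SU n F q ≃* rootGen (stdHerm hF n) :=
  (suEquiv hF n).trans (MulEquiv.subgroupCongr (rootGen_std hF hn).symm)

/-! ### Counts -/

/-- The number of vectors of Hermitian value `c`. -/
noncomputable def levelCount (n : ℕ) (F : Type*) [Field F] (q : ℕ) (c : F) : ℕ :=
  Nat.card {v : Fin n → F // Cfsg.hermForm n F q v v = c}

theorem levelCount_norm (hF : Fintype.card F = q ^ 2) (n : ℕ) {c : F} (hc : qPow hF c = c)
    (hc0 : c ≠ 0) : levelCount n F q c = levelCount n F q 1 := by
  obtain ⟨t, ht⟩ := exists_norm_eq hF c hc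
  have ht0 : t ≠ 0 := by
    intro h0
    rw [h0, zero_mul] at ht
    exact hc0 ht.symm
  have hsc : ∀ (a : F) (v : Fin n → F), Cfsg.hermForm n F q (a • v) (a • v) =
      a * a ^ q * Cfsg.hermForm n F q v v := fun a v => by
    rw [← stdHerm_h hF, (stdHerm hF n).smul_left, (stdHerm hF n).smul_right, stdHerm_conj, stdHerm_h]
    ring
  rw [qPow_apply] at ht
  exact Nat.card_congr
    { toFun := fun v => ⟨t⁻¹ • v.1, by
        rw [hsc, v.2, inv_pow, ← ht]
        field_simp⟩
      invFun := fun v => ⟨t • v.1, by rw [hsc, v.2, mul_one, ht]⟩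
      left_inv := fun v => Subtype.ext (by simp [smul_smul, ht0])
      right_inv := fun v => Subtype.ext (by simp [smul_smul, ht0]) }

theorem levelCount_nonfixed (hF : Fintype.card F = q ^ 2) (n : ℕ) {c : F} (hc : qPow hF c ≠ c) :
    levelCount n F q c = 0 := by
  have : IsEmpty {v : Fin n → F // Cfsg.hermForm n F q v v = c} :=
    ⟨fun v => hc (by rw [← v.2]; exact (stdHerm hF n).conj_diag v.1)⟩
  exact Nat.card_of_isEmpty

theorem levelCount_total (hF : Fintype.card F = q ^ 2) (n : ℕ) :
    levelCount n F q 0 + (q - 1) * levelCount n F q 1 = (q ^ 2) ^ n := by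
  classical
  have h1 : ∑ c : F, levelCount n F q c = (q ^ 2) ^ n := by
    unfold levelCount
    rw [← Nat.card_sigma, Nat.card_congr (Equiv.sigmaFiberEquiv _), Nat.card_fun, Nat.card_fin,
      Nat.card_eq_fintype_card, hF]
  have h2 : ∀ c ∈ Finset.univ.erase (0 : F),
      levelCount n F q c = if qPow hF c = c then levelCount n F q 1 else 0 := by
    intro c hc
    split
    · exact levelCount_norm hF n ‹_› (Finset.ne_of_mem_erase hc)
    · exact levelCount_nonfixed hF n ‹_›
  have h3 : ((Finset.univ.erase (0 : F)).filter fun c => qPow hF c = c).card = q - 1 := by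
    rw [← card_fixed_units hF, ← Nat.card_eq_finsetCard]
    refine Nat.card_congr
      { toFun := fun c => ⟨Units.mk0 c.1 (Finset.ne_of_mem_erase (Finset.mem_filter.1 c.2).1),
          (qPow_fixed_unit_iff hF _).1 (Finset.mem_filter.1 c.2).2⟩
        invFun := fun u => ⟨(u.1 : F), Finset.mem_filter.2
          ⟨Finset.mem_erase.2 ⟨u.1.ne_zero, Finset.mem_univ _⟩, (qPow_fixed_unit_iff hF _).2 u.2⟩⟩
        left_inv := fun c => Subtype.ext rfl
        right_inv := fun u => Subtype.ext (Units.ext rfl) }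
  rw [← Finset.add_sum_erase _ _ (Finset.mem_univ (0 : F)), Finset.sum_congr rfl h2,
    ← Finset.sum_filter, Finset.sum_const, h3, smul_eq_mul] at h1
  exact h1

theorem hermForm_cons (n : ℕ) (x : F) (v : Fin n → F) :
    Cfsg.hermForm (n + 1) F q (Fin.cons x v) (Fin.cons x v) =
      x * x ^ q + Cfsg.hermForm n F q v v := by
  simp [Cfsg.hermForm, Fin.sum_univ_succ]

theorem levelCount_succ_zero (hF : Fintype.card F = q ^ 2) (n : ℕ) :
    levelCount (n + 1) F q 0 = levelCount n F q 0 + (q ^ 2 - 1) * levelCount n F q 1 := by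
  classical
  have e : {v : Fin (n + 1) → F // Cfsg.hermForm (n + 1) F q v v = 0} ≃
      Σ x : F, {v : Fin n → F // Cfsg.hermForm n F q v v = -(x * x ^ q)} :=
    { toFun := fun v => ⟨v.1 0, Fin.tail v.1, by
        have h := v.2
        rw [← Fin.cons_self_tail v.1, hermForm_cons] at h
        exact eq_neg_of_add_eq_zero_right h⟩
      invFun := fun s => ⟨Fin.cons s.1 s.2.1, by rw [hermForm_cons, s.2.2, add_neg_cancel]⟩
      left_inv := fun v => Subtype.ext (Fin.cons_self_tail v.1)
      right_inv := fun s => by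
        obtain ⟨x, v, hv⟩ := s
        refine Sigma.subtype_ext ?_ ?_ <;> simp }
  rw [levelCount, Nat.card_congr e, Nat.card_sigma]
  show ∑ x : F, levelCount n F q (-(x * x ^ q)) = _
  rw [← Finset.add_sum_erase _ _ (Finset.mem_univ (0 : F))]
  have h0 : (-(0 * (0 : F) ^ q)) = 0 := by simp
  rw [h0, Finset.sum_congr rfl fun x hx => show _ = levelCount n F q 1 from
    levelCount_norm hF n (c := -(x * x ^ q)) ?_ ?_, Finset.sum_const,
    Finset.card_erase_of_mem (Finset.mem_univ _), Finset.card_univ, hF, smul_eq_mul]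
  · rw [map_neg, map_mul, map_pow, qPow_apply, ← pow_mul, ← pow_two, ← hF, FiniteField.pow_card,
      mul_comm]
  · exact neg_ne_zero.2 (mul_ne_zero (Finset.ne_of_mem_erase hx)
      (pow_ne_zero _ (Finset.ne_of_mem_erase hx)))

theorem levelCount_zero_zero : levelCount 0 F q 0 = 1 := by
  rw [levelCount, Nat.card_eq_one_iff_unique]
  exact ⟨inferInstance, ⟨⟨0, by simp [Cfsg.hermForm]⟩⟩⟩

/-- Closed form of the number of isotropic vectors, multiplied by `q`. -/
theorem levelCount_zero_formula (hF : Fintype.card F = q ^ 2) (n : ℕ) :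
    (q : ℤ) * levelCount n F q 0 = (q : ℤ) ^ (2 * n) + (-(q : ℤ)) ^ n * ((q : ℤ) - 1) := by
  have hq := two_le_of_card hF
  induction n with
  | zero => rw [levelCount_zero_zero]; simp
  | succ n ih =>
    have ht : ((levelCount n F q 0 + (q - 1) * levelCount n F q 1 : ℕ) : ℤ) = (((q ^ 2) ^ n : ℕ) : ℤ) := by
      rw [levelCount_total hF n]
    have hs : (levelCount (n + 1) F q 0 : ℤ) =
        ((levelCount n F q 0 + (q ^ 2 - 1) * levelCount n F q 1 : ℕ) : ℤ) := by
      rw [levelCount_succ_zero hF n]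
    push_cast [Nat.cast_sub (show 1 ≤ q by omega)] at ht
    push_cast [Nat.cast_sub (Nat.one_le_pow 2 q (by omega))] at hs
    rw [hs, show 2 * (n + 1) = 2 * n + 2 by ring, pow_add, pow_succ (-(q : ℤ)), pow_mul] at *
    linear_combination (-(q : ℤ)) * ih + ((q : ℤ) * ((q : ℤ) + 1)) * ht

/-- Closed form of the number of vectors of norm one, multiplied by `q`. -/
theorem levelCount_one_formula (hF : Fintype.card F = q ^ 2) (n : ℕ) :
    (q : ℤ) * levelCount n F q 1 = (q : ℤ) ^ (2 * n) - (-(q : ℤ)) ^ n := by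
  have hq := two_le_of_card hF
  have hz := levelCount_zero_formula hF n
  have ht : ((levelCount n F q 0 + (q - 1) * levelCount n F q 1 : ℕ) : ℤ) = (((q ^ 2) ^ n : ℕ) : ℤ) := by
    rw [levelCount_total hF n]
  push_cast [Nat.cast_sub (show 1 ≤ q by omega)] at ht
  have hne : (q : ℤ) - 1 ≠ 0 := by omega
  refine mul_left_cancel₀ hne ?_
  rw [pow_mul] at hz ⊢
  linear_combination (q : ℤ) * ht - hz

/-- Norm-one count in natural numbers. -/
theorem levelCount_one_succ (hF : Fintype.card F = q ^ 2) (n : ℕ) :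
    levelCount (n + 1) F q 1 = q ^ n * (if Even n then q ^ (n + 1) + 1 else q ^ (n + 1) - 1) := by
  have hq := two_le_of_card hF
  have h := levelCount_one_formula hF (n + 1)
  refine Int.natCast_inj.1 (mul_left_cancel₀ (show (q : ℤ) ≠ 0 by omega) ?_)
  rw [h, neg_pow]
  rcases Nat.even_or_odd n with he | ho
  · rw [if_pos he, (he.add_one).neg_one_pow]
    push_cast
    ring
  · rw [if_neg (Nat.not_even_iff_odd.2 ho), (ho.add_one).neg_one_pow]
    push_cast [Nat.cast_sub (Nat.one_le_pow (n + 1) q (by omega))]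
    ring

/-! ### Orders -/

theorem card_unit_succ (hF : Fintype.card F = q ^ 2) (n : ℕ) :
    Nat.card (Unit' (stdHerm hF (n + 1))) =
      levelCount (n + 1) F q 1 * Nat.card (Unit' (stdHerm hF n)) := by
  classical
  have hq : q ≠ 0 := by have := two_le_of_card hF; omega
  set e₀ : Fin (n + 1) → F := Fin.cons 1 0 with he₀
  have hee : (stdHerm hF (n + 1)).h e₀ e₀ = 1 := by
    rw [stdHerm_h, he₀, hermForm_cons]; simp [Cfsg.hermForm]
  have hcons : ∀ (x y : F) (u v : Fin n → F), (stdHerm hF (n + 1)).h (Fin.cons x u) (Fin.cons y v) =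
      x * y ^ q + (stdHerm hF n).h u v := by
    intro x y u v
    simp [Cfsg.hermForm, Fin.sum_univ_succ]
  let L := {v : Fin (n + 1) → F // Cfsg.hermForm (n + 1) F q v v = 1}
  choose mv hmv using fun v : L => exists_map_norm_one (H := stdHerm hF (n + 1)) hee v.2
  let St := {g : Unit' (stdHerm hF (n + 1)) // g.1 e₀ = e₀}
  let e1 : Unit' (stdHerm hF (n + 1)) ≃ L × St :=
    { toFun := fun g => (⟨g.1 e₀, by rw [← stdHerm_h hF, unit_h, hee]⟩,
        ⟨(mv ⟨g.1 e₀, by rw [← stdHerm_h hF, unit_h, hee]⟩)⁻¹ * g, by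
          rw [mul_apply]
          exact (congrArg _ (hmv ⟨g.1 e₀, by rw [← stdHerm_h hF, unit_h, hee]⟩).symm).trans
            (inv_apply_self _ e₀)⟩)
      invFun := fun y => mv y.1 * y.2.1
      left_inv := fun g => by simp
      right_inv := fun y => by
        have h : (⟨(mv y.1 * y.2.1).1 e₀, by rw [← stdHerm_h hF, unit_h, hee]⟩ : L) = y.1 :=
          Subtype.ext (by show (mv y.1 * y.2.1).1 e₀ = _; rw [mul_apply, y.2.2]; exact hmv y.1)
        refine Prod.ext h (Subtype.ext ?_)
        show (mv _)⁻¹ * (mv y.1 * y.2.1) = y.2.1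
        rw [h, inv_mul_cancel_left] }
  have key : ∀ (k : Unit' (stdHerm hF (n + 1))), k.1 e₀ = e₀ → ∀ v : Fin n → F,
      k.1 (Fin.cons 0 v) = Fin.cons 0 (Fin.tail (k.1 (Fin.cons 0 v))) := by
    intro k hk v
    have h := unit_h k (Fin.cons 0 v) e₀
    rw [hk] at h
    conv_lhs at h => rw [← Fin.cons_self_tail (k.1 (Fin.cons 0 v))]
    rw [he₀, hcons, hcons, (stdHerm hF n).zero_right, (stdHerm hF n).zero_right] at h
    simp only [one_pow, mul_one, add_zero] at h
    conv_lhs => rw [← Fin.cons_self_tail (k.1 (Fin.cons 0 v)), h]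
  have kinv : ∀ k : Unit' (stdHerm hF (n + 1)), k.1 e₀ = e₀ → (k⁻¹).1 e₀ = e₀ := fun k h => by
    conv_lhs => rw [← h]
    exact inv_apply_self k _
  let e2 : St ≃ Unit' (stdHerm hF n) :=
    { toFun := fun g =>
        ⟨{ toFun := fun v => Fin.tail (g.1.1 (Fin.cons 0 v))
           invFun := fun v => Fin.tail ((g.1⁻¹).1 (Fin.cons 0 v))
           map_add' := fun x y => by
             rw [show (Fin.cons 0 (x + y) : Fin (n + 1) → F) = Fin.cons 0 x + Fin.cons 0 y by
               funext i; refine Fin.cases ?_ ?_ i <;> simp, map_add]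
             rfl
           map_smul' := fun c x => by
             rw [show (Fin.cons 0 (c • x) : Fin (n + 1) → F) = c • Fin.cons 0 x by
               funext i; refine Fin.cases ?_ ?_ i <;> simp, map_smul]
             rfl
           left_inv := fun v => by
             show Fin.tail ((g.1⁻¹).1 (Fin.cons 0 (Fin.tail (g.1.1 (Fin.cons 0 v))))) = v
             rw [← key g.1 g.2 v, inv_apply_self, Fin.tail_cons]
           right_inv := fun v => by
             show Fin.tail (g.1.1 (Fin.cons 0 (Fin.tail ((g.1⁻¹).1 (Fin.cons 0 v))))) = v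
             rw [← key g.1⁻¹ (kinv _ g.2) v, self_apply_inv, Fin.tail_cons] },
         fun x y => by
           show (stdHerm hF n).h (Fin.tail (g.1.1 (Fin.cons 0 x))) (Fin.tail (g.1.1 (Fin.cons 0 y))) = _
           have h := unit_h g.1 (Fin.cons 0 x) (Fin.cons 0 y)
           rw [key g.1 g.2 x, key g.1 g.2 y, hcons, hcons] at h
           simpa [zero_pow hq] using h⟩
      invFun := fun h =>
        ⟨⟨{ toFun := fun v => Fin.cons (v 0) (h.1 (Fin.tail v))
            invFun := fun v => Fin.cons (v 0) ((h⁻¹).1 (Fin.tail v))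
            map_add' := fun x y => by
              funext i
              refine Fin.cases ?_ ?_ i
              · simp
              · intro j
                simp [show Fin.tail (x + y) = Fin.tail x + Fin.tail y from rfl]
            map_smul' := fun c x => by
              funext i
              refine Fin.cases ?_ ?_ i
              · simp
              · intro j
                simp [show Fin.tail (c • x) = c • Fin.tail x from rfl]
            left_inv := fun v => by
              simp only [Fin.cons_zero, Fin.tail_cons, inv_apply_self, Fin.cons_self_tail]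
            right_inv := fun v => by
              simp only [Fin.cons_zero, Fin.tail_cons, self_apply_inv, Fin.cons_self_tail] },
          fun x y => by
            show (stdHerm hF (n + 1)).h (Fin.cons _ _) (Fin.cons _ _) = _
            rw [hcons, unit_h, ← hcons, Fin.cons_self_tail, Fin.cons_self_tail]⟩,
          by
            show Fin.cons (e₀ 0) (h.1 (Fin.tail e₀)) = e₀
            rw [he₀, Fin.cons_zero, Fin.tail_cons, map_zero]⟩
      left_inv := fun g => by
        refine Subtype.ext (unit_ext fun v => ?_)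
        show Fin.cons (v 0) (Fin.tail (g.1.1 (Fin.cons 0 (Fin.tail v)))) = g.1.1 v
        have hv : v = v 0 • e₀ + Fin.cons 0 (Fin.tail v) := by
          funext i; refine Fin.cases ?_ ?_ i <;> simp [he₀, Fin.tail]
        conv_rhs => rw [hv, map_add, map_smul, g.2, key g.1 g.2 (Fin.tail v)]
        funext i
        refine Fin.cases ?_ ?_ i <;> simp [he₀]
      right_inv := fun h => unit_ext fun v => by
        show Fin.tail (Fin.cons (α := fun _ => F) ((Fin.cons 0 v : Fin (n + 1) → F) 0)
          (h.1 (Fin.tail (Fin.cons 0 v : Fin (n + 1) → F)))) = h.1 v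
        rw [Fin.tail_cons, Fin.tail_cons] }
  rw [Nat.card_congr e1, Nat.card_prod, Nat.card_congr e2]
  rfl

theorem card_unit (hF : Fintype.card F = q ^ 2) (n : ℕ) :
    Nat.card (Unit' (stdHerm hF n)) = q ^ (n * (n - 1) / 2) *
      ∏ i ∈ Finset.range n, (if Even i then q ^ (i + 1) + 1 else q ^ (i + 1) - 1) := by
  induction n with
  | zero =>
    simp only [Nat.zero_mul, Nat.zero_div, pow_zero, Finset.range_zero, Finset.prod_empty, mul_one]
    rw [Nat.card_eq_one_iff_unique]
    exact ⟨⟨fun g h => unit_ext fun x => Subsingleton.elim _ _⟩, ⟨1⟩⟩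
  | succ n ih =>
    rw [card_unit_succ, ih, levelCount_one_succ hF, Finset.prod_range_succ]
    have h2 : (n + 1) * (n + 1 - 1) / 2 = n * (n - 1) / 2 + n := by
      rw [Nat.add_sub_cancel]
      rcases n with _ | j
      · simp
      · rw [Nat.add_sub_cancel, show (j + 1 + 1) * (j + 1) = (j + 1) * j + (j + 1) * 2 by ring,
          Nat.add_mul_div_right _ _ (by norm_num : 0 < 2)]
    rw [h2, pow_add]
    ring

theorem detHom_normOne (hF : Fintype.card F = q ^ 2) (n : ℕ) (g : Unit' (stdHerm hF n)) :
    detHom (stdHerm hF n) g ∈ (powMonoidHom (q + 1) : Fˣ →* Fˣ).ker := by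
  have hg : g ∈ Subgroup.closure (shearSet (stdHerm hF n)) := by rw [closure_shear]; trivial
  induction hg using Subgroup.closure_induction with
  | mem x hx =>
    obtain ⟨v, c, hc, rfl⟩ := hx
    rw [MonoidHom.mem_ker, powMonoidHom_apply]
    apply Units.ext
    rw [Units.val_pow_eq_pow_val, detHom_shear, Units.val_one, pow_succ']
    have h2 := hc.eq
    have h3 := (stdHerm hF n).conj_diag v
    change (1 + c * _) * qPow hF (1 + c * _) = 1
    rw [map_add, map_one, map_mul]
    change qPow hF _ = _ at h3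
    rw [h3]
    change c + qPow hF c + c * qPow hF c * _ = 0 at h2
    linear_combination (stdHerm hF n).h v v * h2
  | one => simp
  | mul x y _ _ hx hy => rw [map_mul]; exact mul_mem hx hy
  | inv x _ hx => rw [map_inv]; exact inv_mem hx

theorem range_detHom (hF : Fintype.card F = q ^ 2) {n : ℕ} (hn : 1 ≤ n) :
    (detHom (stdHerm hF n)).range = (powMonoidHom (q + 1) : Fˣ →* Fˣ).ker := by
  refine le_antisymm ?_ ?_
  · rintro _ ⟨g, rfl⟩
    exact detHom_normOne hF n g
  · intro μ hμ
    rw [MonoidHom.mem_ker, powMonoidHom_apply] at hμ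
    have hμ' : (μ : F) * qPow hF μ = 1 := by
      rw [qPow_apply, ← pow_succ', ← Units.val_pow_eq_pow_val, hμ, Units.val_one]
    set v : Fin n → F := Pi.single ⟨0, hn⟩ 1
    have hq : q ≠ 0 := by have := two_le_of_card hF; omega
    have hv : (stdHerm hF n).h v v = 1 := by
      rw [stdHerm_h, Cfsg.hermForm, Finset.sum_eq_single (⟨0, hn⟩ : Fin n)
        (fun j _ hj => by simp [v, hj]) (by simp)]
      simp [v]
    have hc : ShearCond (stdHerm hF n) v ((μ : F) - 1) := by
      unfold ShearCond
      rw [hv]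
      change ((μ : F) - 1) + qPow hF ((μ : F) - 1) + ((μ : F) - 1) * qPow hF ((μ : F) - 1) * 1 = 0
      rw [map_sub, map_one]
      linear_combination hμ'
    exact ⟨shear _ v _ hc, Units.ext (by rw [detHom_shear, hv]; ring)⟩

theorem card_unit_eq_mul_su (hF : Fintype.card F = q ^ 2) {n : ℕ} (hn : 1 ≤ n) :
    (q + 1) * Nat.card (Cfsg.SU n F q) = Nat.card (Unit' (stdHerm hF n)) := by
  rw [← (detHom (stdHerm hF n)).ker.card_mul_index, Subgroup.index_ker, range_detHom hF hn,
    card_normOne_units hF, Nat.card_congr (suEquiv hF n).toEquiv, mul_comm]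

/-- A central element of the root group is a scalar of norm one. -/
theorem mem_center_rootGen_iff_scalar {F V : Type*} [Field F] [AddCommGroup V] [Module F V]
    [FiniteDimensional F V] {H : HermSpace F V} (hB : Big H) {e f : V} (p : IsHPair H e f)
    (g : rootGen H) :
    g ∈ Subgroup.center (rootGen H) ↔ ∃ μ : F, μ * H.conj μ = 1 ∧ ∀ x, g.1.1 x = μ • x := by
  constructor
  · intro hg
    refine scalar_of_fix_lines hB p g.1 fun u hu0 hu => ?_
    obtain ⟨z, pz⟩ := exists_isotropic_partner hu hu0
    obtain ⟨l, hl0, hl⟩ := H.exists_skew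
    have c : RootCond H u 0 l := ⟨hu, H.zero_left u, by rw [H.zero_left]; linear_combination hl⟩
    refine ⟨H.h (g.1.1 z) u, ?_⟩
    have h1 : (root H u 0 l c).1 (g.1.1 z) = g.1.1 ((root H u 0 l c).1 z) :=
      congrArg (fun k : rootGen H => k.1.1 z) (Subgroup.mem_center_iff.1 hg ⟨_, root_mem c⟩)
    simp only [root_apply, H.zero_right, pz.2.2, smul_zero, add_zero,
      neg_zero, zero_add, mul_one, map_add, map_smul] at h1
    refine smul_right_injective V hl0 ?_
    show l • g.1.1 u = l • (H.h (g.1.1 z) u • u)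
    linear_combination (norm := module) -h1
  · rintro ⟨μ, -, h⟩
    rw [Subgroup.mem_center_iff]
    intro y
    apply Subtype.ext
    refine unit_ext fun x => ?_
    simp [h]

theorem card_center_su (hF : Fintype.card F = q ^ 2) {n : ℕ} (hn : 3 ≤ n) :
    Nat.card (Subgroup.center (Cfsg.SU n F q)) = Nat.gcd n (q + 1) := by
  obtain ⟨e, f, p⟩ := exists_pair_std hF hn
  have hB := big_std hF hn
  set ψ := suEquivRoot hF hn
  have h1 : Nat.card (Subgroup.center (Cfsg.SU n F q)) =
      Nat.card (Subgroup.center (rootGen (stdHerm hF n))) := by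
    refine Nat.card_congr (ψ.toEquiv.subtypeEquiv fun a => ?_)
    constructor
    · intro ha
      refine Subgroup.mem_center_iff.2 fun b => ?_
      obtain ⟨b', rfl⟩ := ψ.surjective b
      show ψ b' * ψ a = ψ a * ψ b'
      rw [← map_mul, ← map_mul, Subgroup.mem_center_iff.1 ha]
    · intro ha
      refine Subgroup.mem_center_iff.2 fun b => ψ.injective ?_
      rw [map_mul, map_mul]
      exact Subgroup.mem_center_iff.1 ha (ψ b)
  rw [h1]
  have hker : (powMonoidHom (Nat.gcd n (q + 1)) : Fˣ →* Fˣ).ker =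
      (powMonoidHom n : Fˣ →* Fˣ).ker ⊓ (powMonoidHom (q + 1) : Fˣ →* Fˣ).ker := by
    ext u
    simp only [Subgroup.mem_inf, MonoidHom.mem_ker, powMonoidHom_apply]
    exact pow_gcd_eq_one
  have hdet : ∀ (g : Unit' (stdHerm hF n)) (μ : F), (∀ x, g.1 x = μ • x) →
      (detHom (stdHerm hF n) g : F) = μ ^ n := by
    intro g μ hg
    show (LinearEquiv.det g.1 : F) = _
    rw [LinearEquiv.coe_det, show (g.1 : (Fin n → F) →ₗ[F] Fin n → F) = μ • LinearMap.id from
      LinearMap.ext fun x => by simp [hg], LinearMap.det_smul, LinearMap.det_id, mul_one,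
      Module.finrank_fin_fun]
  have key : Nat.card (Subgroup.center (rootGen (stdHerm hF n))) =
      Nat.card (powMonoidHom (Nat.gcd n (q + 1)) : Fˣ →* Fˣ).ker := by
    have h2 := fun g : Subgroup.center (rootGen (stdHerm hF n)) =>
      (mem_center_rootGen_iff_scalar hB p g.1).1 g.2
    choose μ hμN hμ using h2
    have hμ0 : ∀ g, μ g ≠ 0 := fun g => left_ne_zero_of_mul_eq_one (hμN g)
    refine Nat.card_congr (Equiv.ofBijective (fun g => ⟨Units.mk0 (μ g) (hμ0 g), ?_⟩) ⟨?_, ?_⟩)
    · rw [hker, Subgroup.mem_inf, MonoidHom.mem_ker, MonoidHom.mem_ker, powMonoidHom_apply,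
        powMonoidHom_apply]
      constructor
      · apply Units.ext
        rw [Units.val_pow_eq_pow_val, Units.val_mk0, Units.val_one, ← hdet g.1.1 (μ g) (hμ g),
          (MonoidHom.mem_ker.1 (rootGen_le_ker_det g.1.2)), Units.val_one]
      · apply Units.ext
        rw [Units.val_pow_eq_pow_val, Units.val_mk0, Units.val_one, pow_succ']
        exact hμN g
    · intro g g' hgg
      have h3 : μ g = μ g' := congrArg (fun u : (powMonoidHom (Nat.gcd n (q + 1)) : Fˣ →* Fˣ).ker =>
        ((u.1 : Fˣ) : F)) hgg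
      exact Subtype.ext (Subtype.ext (unit_ext fun x => by rw [hμ g, hμ g', h3]))
    · rintro ⟨u, hu⟩
      rw [hker, Subgroup.mem_inf, MonoidHom.mem_ker, MonoidHom.mem_ker, powMonoidHom_apply,
        powMonoidHom_apply] at hu
      have huN : (u : F) * qPow hF u = 1 := by
        rw [qPow_apply, ← pow_succ', ← Units.val_pow_eq_pow_val, hu.2, Units.val_one]
      let g : Unit' (stdHerm hF n) := ⟨LinearEquiv.smulOfUnit u, fun x y => by
        show (stdHerm hF n).h ((u : F) • x) ((u : F) • y) = _
        rw [(stdHerm hF n).smul_left, (stdHerm hF n).smul_right, ← mul_assoc]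
        change (u : F) * qPow hF u * _ = _
        rw [huN, one_mul]⟩
      have hg : ∀ x, g.1 x = (u : F) • x := fun x => rfl
      have hmem : g ∈ rootGen (stdHerm hF n) := by
        rw [rootGen_std hF hn, MonoidHom.mem_ker]
        apply Units.ext
        rw [hdet g _ hg, ← Units.val_pow_eq_pow_val, hu.1]
      have hc : (⟨g, hmem⟩ : rootGen (stdHerm hF n)) ∈ Subgroup.center _ :=
        (mem_center_rootGen_iff_scalar hB p _).2 ⟨u, huN, hg⟩
      refine ⟨⟨_, hc⟩, Subtype.ext (Units.ext ?_)⟩
      have h4 := (hμ ⟨_, hc⟩ e).symm.trans (hg e)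
      exact smul_left_injective F p.left_ne_zero h4
  rw [key, card_ker_pow hF,
    Nat.gcd_eq_right ((Nat.gcd_dvd_right n (q + 1)).trans (dvd_mul_left _ _))]

theorem isSimpleGroup_psu (hF : Fintype.card F = q ^ 2) {n : ℕ} (hn : 3 ≤ n)
    (h32 : ¬ (n = 3 ∧ q = 2)) : IsSimpleGroup (Cfsg.PSU n F q) := by
  obtain ⟨e, f, p⟩ := exists_pair_std hF hn
  have := isSimpleGroup_rootGen_quot (big_std hF hn) (perfectable_std hF hn h32) p
  have hmap : (Subgroup.center (Cfsg.SU n F q)).map (suEquivRoot hF hn : Cfsg.SU n F q →* _) =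
      Subgroup.center (rootGen (stdHerm hF n)) := by
    ext b
    constructor
    · rintro ⟨a, ha, rfl⟩
      refine Subgroup.mem_center_iff.2 fun b => ?_
      obtain ⟨b', rfl⟩ := (suEquivRoot hF hn).surjective b
      show suEquivRoot hF hn b' * suEquivRoot hF hn a = suEquivRoot hF hn a * suEquivRoot hF hn b'
      rw [← map_mul, ← map_mul, Subgroup.mem_center_iff.1 ha]
    · intro hb
      refine ⟨(suEquivRoot hF hn).symm b,
        Subgroup.mem_center_iff.2 fun a => (suEquivRoot hF hn).injective ?_,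
        (suEquivRoot hF hn).apply_symm_apply b⟩
      rw [map_mul, map_mul, (suEquivRoot hF hn).apply_symm_apply]
      exact Subgroup.mem_center_iff.1 hb _
  let ψ := QuotientGroup.congr _ _ (suEquivRoot hF hn) hmap
  have := ψ.toEquiv.nontrivial
  exact IsSimpleGroup.isSimpleGroup_of_surjective ψ.symm.toMonoidHom ψ.symm.surjective

end CfsgLib.Classical.Herm
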