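import Cfsg.Agent.Lib.Classical.Herm.Basic
import Cfsg.Agent.Lib.Classical.Iwasawa
import Mathlib.GroupTheory.Solvable

/-!
`S = ker det` of a Hermitian space of dimension at least 3: perfect, generated by transvections,
scalar centre, simple central quotient.
-/

set_option autoImplicit false

namespace CfsgLib.Classical.Herm

open Module HermSpace

variable {F V : Type*} [Field F] [AddCommGroup V] [Module F V] {H : HermSpace F V}

/-- The projection to the orthogonal complement of a hyperbolic pair. -/
def pairProj (H : HermSpace F V) (e f x : V) : V := x + (-(H.h x f)) • e + (-(H.h x e)) • f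

theorem pairProj_mem {e f : V} (p : IsHPair H e f) (x : V) :
    H.h (pairProj H e f x) e = 0 ∧ H.h (pairProj H e f x) f = 0 := by
  simp only [pairProj, H.add_left, H.smul_left, p.1, p.2.1, p.2.2, H.h_comm_one p.2.2]
  constructor <;> ring

theorem pairProj_h {e f : V} (x : V) {k : V} (hk : H.h k e = 0 ∧ H.h k f = 0) :
    H.h (pairProj H e f x) k = H.h x k := by
  simp only [pairProj, H.add_left, H.smul_left, H.h_comm_zero hk.1, H.h_comm_zero hk.2]
  ring

/-- A vector of norm one orthogonal to a pair. -/
theorem exists_unit_orth (hB : Big H) {e f : V} (p : IsHPair H e f) :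
    ∃ y, H.h y e = 0 ∧ H.h y f = 0 ∧ H.h y y = 1 := by
  obtain ⟨e₀, he₀, h1, h2⟩ := hB e f
  obtain ⟨y, ⟨hy1, hy2⟩, hyy⟩ := H.exists_value_in {x | H.h x e = 0 ∧ H.h x f = 0} (pairProj H e f)
    (pairProj_mem p) (fun x k hk => pairProj_h x hk)
    (fun a pa b pb c => ⟨by rw [H.add_left, H.smul_left, pa.1, pb.1]; ring,
      by rw [H.add_left, H.smul_left, pa.2, pb.2]; ring⟩)
    (fun a pa c => ⟨by rw [H.smul_left, pa.1]; ring, by rw [H.smul_left, pa.2]; ring⟩)
    (e₀ := e₀) ⟨h1, h2⟩ he₀ (c := 1) (map_one _)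
  exact ⟨y, hy1, hy2, hyy⟩

open scoped commutatorElement in
/-- A central root element is a commutator of two root elements. -/
theorem root_zero_eq_commutator (hB : Big H) {u : V} {l : F} (c : RootCond H u 0 l) (hu0 : u ≠ 0) :
    ∃ a b : Unit' H, a ∈ rootGen H ∧ b ∈ rootGen H ∧ root H u 0 l c = ⁅a, b⁆ := by
  obtain ⟨z, p⟩ := exists_isotropic_partner c.1 hu0
  obtain ⟨y, hye, hyf, hyy⟩ := exists_unit_orth hB p
  obtain ⟨t, ht⟩ := H.exists_trace_one
  have hl : H.conj l = -l := by
    have h3 := c.2.2
    rw [H.zero_left] at h3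
    linear_combination h3
  set s := l * t with hs
  obtain ⟨a, ha⟩ := H.exists_trace (c := -(s * H.conj s)) (by
    rw [map_neg, map_mul, H.conj_conj, mul_comm])
  obtain ⟨b, hb⟩ := H.exists_trace (c := (-1 : F)) (by rw [map_neg, map_one])
  have ca : RootCond H u (s • y) a := ⟨c.1, by rw [H.smul_left, hye, mul_zero], by
    rw [H.smul_left, H.smul_right, hyy]
    linear_combination ha⟩
  have cb : RootCond H u y b := ⟨c.1, hye, by rw [hyy]; linear_combination hb⟩
  refine ⟨_, _, root_mem ca, root_mem cb, ?_⟩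
  rw [commutatorElement_def, root_conj, root_inv]
  have h1 : (root H u (s • y) a ca).1 u = u := by
    rw [root_apply, c.1, H.smul_right, H.h_comm_zero hye]; module
  have h2 : (root H u (s • y) a ca).1 y = y + (-(H.conj s)) • u := by
    rw [root_apply, hye, H.smul_right, hyy]; module
  set d := -(H.conj s) with hd
  have cy : RootCond H u (y + d • u) b := by
    have := cb.map (root H u (s • y) a ca)
    rwa [h1, h2] at this
  have cy' : RootCond H u (y + d • u) (b - (H.conj d - d) + (H.conj d - d)) := by
    rwa [sub_add_cancel]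
  have cy0 : RootCond H u y (b - (H.conj d - d)) := ⟨c.1, hye, by
    rw [hyy]
    simp only [map_sub, H.conj_conj]
    linear_combination hb⟩
  rw [root_congr (cb.map _) cy h1 h2 rfl, root_congr cy cy' rfl rfl (sub_add_cancel _ _).symm,
    root_add_smul _ cy0 cy', root_mul]
  refine root_congr _ _ rfl (by abel) ?_
  rw [H.neg_left, hyy, hd, hs, map_neg, H.conj_conj, map_mul, hl]
  linear_combination (-l) * ht - hb

/-- The hypothesis for perfectness. -/
def Perfectable (H : HermSpace F V) : Prop :=
  (∃ t, t ≠ 0 ∧ H.conj t * H.conj t ≠ t) ∨ ∀ u v w : V, ∃ e, e ≠ 0 ∧ H.h e u = 0 ∧ H.h e v = 0 ∧ H.h e w = 0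

theorem perfectable_of_finrank [FiniteDimensional F V] (hd : 4 ≤ finrank F V) : Perfectable H := by
  refine Or.inr fun u v w => ?_
  set Φ := (H.form u).prod ((H.form v).prod (H.form w)) with hΦ
  have h1 := LinearMap.finrank_range_add_finrank_ker Φ
  have h2 := Submodule.finrank_le (LinearMap.range Φ)
  rw [Module.finrank_prod, Module.finrank_prod, finrank_self] at h2
  obtain ⟨e, he, hne⟩ := Submodule.exists_mem_ne_zero_of_ne_bot (p := LinearMap.ker Φ) (by
      intro h0
      rw [h0, finrank_bot] at h1
      omega)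
  simp [hΦ] at he
  exact ⟨e, hne, he.1, he.2.1, he.2.2⟩

section Main

variable [FiniteDimensional F V] (hB : Big H) (hP : Perfectable H) {e f : V} (p : IsHPair H e f)

include p in
/-- The dilation of a pair. -/
theorem exists_dilation {t : F} (ht : t ≠ 0) :
    ∃ d : Unit' H, (detHom H d : F) = t * (H.conj t)⁻¹ ∧ d.1 e = t • e ∧
      ∀ x, H.h x e = 0 → H.h x f = 0 → d.1 x = x := by
  have hct := H.conj_ne_zero ht
  have hfe : H.h f e = 1 := p.2.2
  have hef : H.h e f = 1 := H.h_comm_one p.2.2
  let D : F → (V →ₗ[F] V) := fun s =>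
    (LinearMap.transvection ((s - 1) • H.form f) e) ∘ₗ
      (LinearMap.transvection (((H.conj s)⁻¹ - 1) • H.form e) f)
  have hD : ∀ (s : F) x,
      D s x = x + ((s - 1) * H.h x f) • e + (((H.conj s)⁻¹ - 1) * H.h x e) • f := fun s x => by
    simp [D, LinearMap.transvection.apply, H.add_left, H.smul_left, p.2.1]
    module
  have hcomp : ∀ s x, s ≠ 0 → D s (D s⁻¹ x) = x := fun s x hs => by
    have hcs := H.conj_ne_zero hs
    simp only [hD, H.add_left, H.smul_left, p.1, p.2.1, hfe, hef, map_inv₀, inv_inv]
    match_scalars <;> field_simp <;> ring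
  let d : V ≃ₗ[F] V := LinearEquiv.ofLinear (D t) (D t⁻¹) (LinearMap.ext fun x => hcomp t x ht)
    (LinearMap.ext fun x => by
      have := hcomp t⁻¹ x (inv_ne_zero ht)
      rwa [inv_inv] at this)
  have hdapp : ∀ x, d x = D t x := fun _ => rfl
  refine ⟨⟨d, fun x y => ?_⟩, ?_, ?_, fun x h1 h2 => ?_⟩
  · simp only [hdapp, hD, H.add_left, H.add_right, H.smul_left, H.smul_right, p.1, p.2.1, hfe, hef,
      map_mul, map_sub, map_one, map_inv₀, H.conj_conj, H.symm']
    field_simp
    ring
  · show (LinearEquiv.det d : F) = _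
    rw [LinearEquiv.coe_det, show (d : V →ₗ[F] V) = D t from rfl]
    simp only [D, LinearMap.det_comp, LinearMap.transvection.det, LinearMap.smul_apply,
      HermSpace.form_apply, smul_eq_mul, hfe, hef, mul_one]
    ring
  · show d e = t • e
    rw [hdapp, hD, p.1, hef]
    module
  · show d x = x
    rw [hdapp, hD, h1, h2]
    module

include hB p in
/-- A nonisotropic vector orthogonal to the pair gives root elements in the derived group. -/
theorem exists_root_mem_derived_aux {w y : V} (hwe : H.h w e = 0) (hwf : H.h w f = 0)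
    (hye : H.h y e = 0) (hyf : H.h y f = 0) (hy : H.h y y ≠ 0) {t : F} (ht : t ≠ 0) {k : F}
    (hk : w + ((H.conj t / t - 1) / H.h y y * H.h w y) • y = k • w)
    (hne : H.conj t * k ≠ 1) :
    ∃ (L : F) (c : RootCond H e ((H.conj t * k - 1) • w) L),
      root H e ((H.conj t * k - 1) • w) L c ∈ ⁅rootGen H, rootGen H⁆ := by
  obtain ⟨d, hdd, hde, hdfix⟩ := exists_dilation p ht
  have hct := H.conj_ne_zero ht
  set μ := H.conj t / t with hμ
  have hcond : ShearCond H y ((μ - 1) / H.h y y) := by
    have hμN : μ * H.conj μ = 1 := by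
      rw [hμ, map_div₀, H.conj_conj]
      field_simp
    unfold ShearCond
    rw [map_div₀, map_sub, map_one, H.conj_diag]
    field_simp
    linear_combination hμN
  set g := d * shear H y _ hcond with hg
  have hgdet : g ∈ rootGen H := by
    rw [rootGen_eq_ker_det hB p, MonoidHom.mem_ker, hg, map_mul]
    apply Units.ext
    rw [Units.val_mul, hdd, detHom_shear, div_mul_cancel₀ _ hy, hμ, Units.val_one]
    field_simp
    ring
  have hge : g.1 e = t • e := by
    rw [hg, mul_apply, shear_apply, H.h_comm_zero hye, mul_zero, zero_smul, add_zero, hde]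
  have hgw : g.1 w = k • w := by
    rw [hg, mul_apply, shear_apply, hk, map_smul, hdfix w hwe hwf]
  obtain ⟨l, hl⟩ := H.exists_trace (c := -H.h w w) (by rw [map_neg, H.conj_diag])
  have c : RootCond H e w l := ⟨p.1, hwe, by linear_combination hl⟩
  have h := Subgroup.commutator_mem_commutator hgdet (root_mem c)
  rw [commutatorElement_def, root_conj, root_inv] at h
  have c1 : RootCond H (t • e) (k • w) l := by
    have := c.map g
    rwa [hge, hgw] at this
  rw [root_congr (c.map g) c1 hge hgw rfl, root_smul t ht c1, root_mul] at h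
  have hwadd : H.conj t • k • w + -w = (H.conj t * k - 1) • w := by module
  refine ⟨t * H.conj t * l + H.conj l - H.h (-w) (H.conj t • k • w), ?_, ?_⟩
  · rw [← hwadd]
    exact (c1.smul t ht).add c.neg
  · rwa [root_congr _ _ rfl hwadd rfl] at h

include hB hP p in
theorem root_mem_derived {w : V} {l : F} (c : RootCond H e w l) :
    root H e w l c ∈ ⁅rootGen H, rootGen H⁆ := by
  set D := ⁅rootGen H, rootGen H⁆ with hD
  have cz : ∀ (L : F) (cL : RootCond H e 0 L), root H e 0 L cL ∈ D := by
    intro L cL
    obtain ⟨a, b, ha, hb, h⟩ := root_zero_eq_commutator hB cL p.left_ne_zero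
    rw [h]
    exact Subgroup.commutator_mem_commutator ha hb
  -- membership does not depend on the central parameter
  have indep : ∀ (x : V) (l l' : F) (cx : RootCond H e x l) (cx' : RootCond H e x l'),
      root H e x l cx ∈ D → root H e x l' cx' ∈ D := by
    intro x l l' cx cx' hx
    have cd : RootCond H e 0 (l' - l) := ⟨p.1, H.zero_left e, by
      rw [H.zero_left, map_sub]; linear_combination cx'.2.2 - cx.2.2⟩
    have h := mul_mem hx (cz _ cd)
    rw [root_mul] at h
    rwa [root_congr _ cx' rfl (add_zero x) (by rw [H.zero_left]; ring)] at h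
  have nonis : ∀ (x : V) (l : F) (cx : RootCond H e x l), H.h x f = 0 → H.h x x ≠ 0 →
      root H e x l cx ∈ D := by
    intro x l cx hxf hxx
    have hxe := cx.2.1
    rcases hP with ⟨t, ht, htt⟩ | hroom
    · have hne : H.conj t * (H.conj t / t) - 1 ≠ 0 := by
        rw [sub_ne_zero, ← mul_div_assoc]
        exact fun h0 => htt ((div_eq_one_iff_eq ht).1 h0)
      set w := (H.conj t * (H.conj t / t) - 1)⁻¹ • x with hw
      have hww : H.h w w ≠ 0 := by
        rw [hw, H.smul_left, H.smul_right]
        exact mul_ne_zero (inv_ne_zero hne) (mul_ne_zero ((map_ne_zero _).2 (inv_ne_zero hne)) hxx)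
      have hwe : H.h w e = 0 := by rw [hw, H.smul_left, hxe, mul_zero]
      have hwf : H.h w f = 0 := by rw [hw, H.smul_left, hxf, mul_zero]
      obtain ⟨L, cL, hmem⟩ := exists_root_mem_derived_aux hB p hwe hwf hwe hwf hww ht
        (k := H.conj t / t) (by rw [div_mul_cancel₀ _ hww]; module)
        (fun h0 => hne (sub_eq_zero.2 h0))
      have hx : (H.conj t * (H.conj t / t) - 1) • w = x := by
        rw [hw, smul_smul, mul_inv_cancel₀ hne, one_smul]
      have c2 : RootCond H e x L := by rwa [hx] at cL
      rw [root_congr cL c2 rfl hx rfl] at hmem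
      exact indep x L l c2 cx hmem
    · obtain ⟨a, ha⟩ := H.conj_ne
      have ha0 : a ≠ 0 := fun h0 => ha (by rw [h0, map_zero])
      have hne : H.conj a * 1 - 1 ≠ 0 := by
        rw [mul_one, sub_ne_zero]
        intro h0
        exact ha (by rw [← H.conj_conj a, h0, map_one, map_one])
      set w := (H.conj a * 1 - 1)⁻¹ • x with hw
      have hwe : H.h w e = 0 := by rw [hw, H.smul_left, hxe, mul_zero]
      have hwf : H.h w f = 0 := by rw [hw, H.smul_left, hxf, mul_zero]
      obtain ⟨e₀, he₀, k1, k2, k3⟩ := hroom e f x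
      obtain ⟨y, ⟨hye, hyf, hyx⟩, hyy⟩ := H.exists_value_in
        {z | H.h z e = 0 ∧ H.h z f = 0 ∧ H.h z x = 0}
        (fun z => pairProj H e f z + (-(H.h z x / H.h x x)) • x)
        (fun z => by
          obtain ⟨q1, q2⟩ := pairProj_mem p z
          refine ⟨?_, ?_, ?_⟩
          · rw [H.add_left, H.smul_left, q1, hxe]; ring
          · rw [H.add_left, H.smul_left, q2, hxf]; ring
          · rw [H.add_left, H.smul_left, pairProj_h z ⟨hxe, hxf⟩]
            field_simp
            ring)
        (fun z k hk => by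
          rw [H.add_left, H.smul_left, pairProj_h z ⟨hk.1, hk.2.1⟩, H.h_comm_zero hk.2.2]
          ring)
        (fun u pu v pv c => ⟨by rw [H.add_left, H.smul_left, pu.1, pv.1]; ring,
          by rw [H.add_left, H.smul_left, pu.2.1, pv.2.1]; ring,
          by rw [H.add_left, H.smul_left, pu.2.2, pv.2.2]; ring⟩)
        (fun u pu c => ⟨by rw [H.smul_left, pu.1]; ring, by rw [H.smul_left, pu.2.1]; ring,
          by rw [H.smul_left, pu.2.2]; ring⟩)
        (e₀ := e₀) ⟨k1, k2, k3⟩ he₀ (c := 1) (map_one _)
      have hwy : H.h w y = 0 := by rw [hw, H.smul_left, H.h_comm_zero hyx, mul_zero]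
      obtain ⟨L, cL, hmem⟩ := exists_root_mem_derived_aux hB p hwe hwf hye hyf
        (by rw [hyy]; exact one_ne_zero) ha0 (k := 1)
        (by rw [hwy, mul_zero, zero_smul, add_zero, one_smul])
        (fun h0 => hne (sub_eq_zero.2 h0))
      have hx : (H.conj a * 1 - 1) • w = x := by
        rw [hw, smul_smul, mul_inv_cancel₀ hne, one_smul]
      have c2 : RootCond H e x L := by rwa [hx] at cL
      rw [root_congr cL c2 rfl hx rfl] at hmem
      exact indep x L l c2 cx hmem
  have inW : ∀ (x : V) (l : F) (cx : RootCond H e x l), H.h x f = 0 → root H e x l cx ∈ D := by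
    intro x l cx hxf
    by_cases hxx : H.h x x = 0
    · by_cases hx0 : x = 0
      · subst hx0
        exact cz l cx
      obtain ⟨z, hz⟩ := H.exists_h_one hx0
      obtain ⟨q1, q2⟩ := pairProj_mem p z
      have hzx : H.h (pairProj H e f z) x = 1 := by rw [pairProj_h z ⟨cx.2.1, hxf⟩, hz]
      set z' := pairProj H e f z with hz'
      obtain ⟨t, ht⟩ := H.exists_trace (c := 1 - H.h z' z') (by rw [map_sub, map_one, H.conj_diag])
      set y := z' + t • x with hy
      have hye : H.h y e = 0 := by rw [hy, H.add_left, H.smul_left, q1, cx.2.1]; ring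
      have hyf : H.h y f = 0 := by rw [hy, H.add_left, H.smul_left, q2, hxf]; ring
      have hyx : H.h y x = 1 := by rw [hy, H.add_left, H.smul_left, hzx, hxx]; ring
      have hyy : H.h y y = 1 := by
        rw [hy, H.add_left, H.add_right, H.add_right, H.smul_left, H.smul_left, H.smul_right,
          H.smul_right, hzx, H.h_comm_one hzx, hxx]
        linear_combination ht
      obtain ⟨l₂, hl₂⟩ := H.exists_trace (c := (-1 : F)) (by rw [map_neg, map_one])
      obtain ⟨l₁, hl₁⟩ := H.exists_trace (c := (1 : F)) (map_one _)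
      have c1 : RootCond H e (x + -y) l₁ := by
        refine ⟨p.1, by rw [H.add_left, H.neg_left, hye, cx.2.1]; ring, ?_⟩
        rw [H.add_left, H.add_right, H.add_right, H.neg_left, H.neg_left, H.neg_right,
          H.neg_right, hxx, hyx, H.h_comm_one hyx, hyy]
        linear_combination hl₁
      have c2 : RootCond H e y l₂ := ⟨p.1, hye, by rw [hyy]; linear_combination hl₂⟩
      have hm1 : root H e (x + -y) l₁ c1 ∈ D := by
        refine nonis _ _ _ (by rw [H.add_left, H.neg_left, hxf, hyf]; ring) ?_
        rw [H.add_left, H.add_right, H.add_right, H.neg_left, H.neg_left, H.neg_right, H.neg_right,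
          hxx, hyx, H.h_comm_one hyx, hyy]
        ring_nf
        exact neg_ne_zero.2 one_ne_zero
      have h := mul_mem hm1 (nonis y l₂ c2 hyf (by rw [hyy]; exact one_ne_zero))
      rw [root_mul] at h
      have hxy : x + -y + y = x := by abel
      have cx' : RootCond H e x (l₁ + l₂ - H.h y (x + -y)) := by
        have := c1.add c2
        rwa [hxy] at this
      rw [root_congr _ cx' rfl hxy rfl] at h
      exact indep x _ l cx' cx h
    · exact nonis x l cx hxf hxx
  obtain ⟨q1, q2⟩ := pairProj_mem p w
  have hw : pairProj H e f w + H.h w f • e = w := by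
    simp only [pairProj, c.2.1]; module
  have c' : RootCond H e (pairProj H e f w + H.h w f • e)
      (l - (H.conj (H.h w f) - H.h w f) + (H.conj (H.h w f) - H.h w f)) := by
    rwa [hw, sub_add_cancel]
  have c0 : RootCond H e (pairProj H e f w) (l - (H.conj (H.h w f) - H.h w f)) := by
    refine ⟨p.1, q1, ?_⟩
    have h3 := c.2.2
    rw [← hw] at h3
    rw [H.add_left, H.add_right, H.add_right, H.smul_left, H.smul_left, H.smul_right, H.smul_right,
      p.1, q1, H.h_comm_zero q1] at h3
    simp only [map_sub, H.conj_conj]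
    linear_combination h3
  have h := inW _ _ c0 q2
  rw [← root_add_smul (H.h w f) c0 c'] at h
  rwa [root_congr c' c rfl hw (sub_add_cancel _ _)] at h

include hB hP p in
theorem commutator_rootGen : ⁅rootGen H, rootGen H⁆ = rootGen H := by
  refine le_antisymm (Subgroup.commutator_le_self _) ?_
  conv_lhs => rw [rootGen]
  rw [Subgroup.closure_le]
  rintro _ ⟨u, w, l, c, rfl⟩
  by_cases hu0 : u = 0
  · have : root H u w l c = 1 := unit_ext fun x => by
      subst hu0
      simp [root_apply, H.zero_right]
    rw [this]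
    exact one_mem _
  · obtain ⟨g, hg, hgu⟩ := rootGen_transitive hB c.1 hu0 p.1 p.left_ne_zero
    have c1 : RootCond H e (g.1 w) l := by
      have := c.map g
      rwa [hgu] at this
    have h := root_mem_derived hB hP p c1
    rw [← root_congr (c.map g) c1 hgu rfl rfl, ← root_conj g c] at h
    exact (Subgroup.Normal.mem_comm_iff inferInstance).1 (by simpa [mul_assoc] using h) |>
      fun h' => by simpa using h'

include hB hP p in
theorem rootGen_perfect : commutator (rootGen H) = ⊤ := by
  apply Subgroup.map_injective (rootGen H).subtype_injective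
  rw [Subgroup.map_subtype_commutator, ← MonoidHom.range_eq_map, Subgroup.range_subtype]
  exact commutator_rootGen hB hP p

/-- The non-zero isotropic vectors. -/
abbrev IsoVec (H : HermSpace F V) : Type _ := {u : V // u ≠ 0 ∧ H.h u u = 0}

/-- Equality of the lines spanned. -/
def sameLine (H : HermSpace F V) : Setoid (IsoVec H) where
  r x y := ∃ c : F, c • x.1 = y.1
  iseqv :=
    { refl := fun x => ⟨1, one_smul _ _⟩
      symm := by
        rintro x y ⟨c, hc⟩
        have hc0 : c ≠ 0 := by
          rintro rfl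
          exact y.2.1 (by rw [← hc, zero_smul])
        exact ⟨c⁻¹, by rw [← hc, smul_smul, inv_mul_cancel₀ hc0, one_smul]⟩
      trans := by
        rintro x y z ⟨c, hc⟩ ⟨d, hd⟩
        exact ⟨d * c, by rw [← smul_smul, hc, hd]⟩ }

/-- The permutation of isotropic vectors given by an isometry. -/
def isoPerm (H : HermSpace F V) : Unit' H →* Equiv.Perm (IsoVec H) where
  toFun g :=
    { toFun := fun u => ⟨g.1 u.1, unit_ne_zero g u.2.1, by rw [unit_h, u.2.2]⟩
      invFun := fun u => ⟨(g⁻¹).1 u.1, unit_ne_zero g⁻¹ u.2.1, by rw [unit_h, u.2.2]⟩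
      left_inv := fun u => Subtype.ext (inv_apply_self g u.1)
      right_inv := fun u => Subtype.ext (self_apply_inv g u.1) }
  map_one' := rfl
  map_mul' _ _ := rfl

include hB in
theorem primitiveMod_isotropic :
    PrimitiveMod ((isoPerm H).comp (rootGen H).subtype) (sameLine H) := by
  intro r hs hinv hex
  have nonorth : ∀ x y x' y' : IsoVec H, H.h y.1 x.1 ≠ 0 → H.h y'.1 x'.1 ≠ 0 → r x y → r x' y' := by
    intro x y x' y' h h' hr
    have hq : IsHPair H x.1 ((H.h y.1 x.1)⁻¹ • y.1) :=
      ⟨x.2.2, by rw [H.smul_left, H.smul_right, y.2.2, mul_zero, mul_zero],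
        by rw [H.smul_left, inv_mul_cancel₀ h]⟩
    have hq' : IsHPair H x'.1 ((H.h y'.1 x'.1)⁻¹ • y'.1) :=
      ⟨x'.2.2, by rw [H.smul_left, H.smul_right, y'.2.2, mul_zero, mul_zero],
        by rw [H.smul_left, inv_mul_cancel₀ h']⟩
    obtain ⟨g, hg, hgx, hgy⟩ := rootGen_map_hpair hB hq hq'
    have h1 := hinv ⟨g, hg⟩ x y hr
    have hx : (((isoPerm H).comp (rootGen H).subtype) ⟨g, hg⟩) x = x' := Subtype.ext hgx
    have hy : sameLine H ((((isoPerm H).comp (rootGen H).subtype) ⟨g, hg⟩) y) y' := by
      refine ⟨H.h y'.1 x'.1 * (H.h y.1 x.1)⁻¹, ?_⟩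
      show _ • g.1 y.1 = y'.1
      rw [map_smul] at hgy
      rw [← smul_smul, hgy, smul_smul, mul_inv_cancel₀ h', one_smul]
    rw [hx] at h1
    exact r.trans h1 (hs _ _ hy)
  have hall : ∀ x y : IsoVec H, H.h y.1 x.1 ≠ 0 → r x y := by
    obtain ⟨x, y, hr, hns⟩ := hex
    by_cases h : H.h y.1 x.1 = 0
    · have hind : ∀ c : F, c • y.1 ≠ x.1 := fun c hc => hns ((sameLine H).symm ⟨c, hc⟩)
      obtain ⟨z, hz1, hz2⟩ := H.exists_h_pair y.2.1 hind 1 0
      obtain ⟨t, ht⟩ := H.exists_trace (c := -H.h z z) (by rw [map_neg, H.conj_diag])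
      set a := z + t • x.1 with ha
      have hax : H.h a x.1 = 1 := by rw [ha, H.add_left, H.smul_left, hz1, x.2.2]; ring
      have hay : H.h a y.1 = 0 := by
        rw [ha, H.add_left, H.smul_left, hz2, H.h_comm_zero h]; ring
      have haa : H.h a a = 0 := by
        rw [ha, H.add_left, H.add_right, H.add_right, H.smul_left, H.smul_left, H.smul_right,
          H.smul_right, hz1, H.h_comm_one hz1, x.2.2]
        linear_combination ht
      obtain ⟨l, hl0, hl⟩ := H.exists_skew
      have c : RootCond H a 0 l := ⟨haa, H.zero_left a, by rw [H.zero_left]; linear_combination hl⟩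
      set g : rootGen H := ⟨_, root_mem c⟩
      have h1 := hinv g x y hr
      have hy : ((isoPerm H).comp (rootGen H).subtype) g y = y := Subtype.ext (by
        show (root H a 0 l c).1 y.1 = y.1
        rw [root_apply, H.h_comm_zero hay, H.zero_right]
        module)
      rw [hy] at h1
      intro x' y' h'
      refine nonorth x _ x' y' ?_ h' (r.trans hr (r.symm h1))
      show H.h ((root H a 0 l c).1 x.1) x.1 ≠ 0
      rw [root_apply, H.zero_right, H.h_comm_one hax, H.add_left, H.add_left, H.smul_left,
        H.smul_left, H.zero_left, hax, x.2.2]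
      simpa using hl0
    · exact fun x' y' h' => nonorth x y x' y' h h' hr
  intro x y
  obtain ⟨z, hz, h1, h2⟩ := exists_isotropic_nonorth hB x.2.2 x.2.1 y.2.2 y.2.1
  have hz0 : z ≠ 0 := by
    intro h0
    exact h1 (by rw [h0, H.zero_left])
  exact r.trans (hall x ⟨z, hz0, hz⟩ h1) (r.symm (hall y ⟨z, hz0, hz⟩ h2))

include hB p in
/-- An isometry fixing all isotropic lines is a scalar of norm one. -/
theorem scalar_of_fix_lines (g : Unit' H)
    (h : ∀ u, u ≠ 0 → H.h u u = 0 → ∃ c : F, g.1 u = c • u) :
    ∃ μ : F, μ * H.conj μ = 1 ∧ ∀ x, g.1 x = μ • x := by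
  choose lam hlam using h
  have key : ∀ u (hu0 : u ≠ 0) (hu : H.h u u = 0) w (hw0 : w ≠ 0) (hw : H.h w w = 0),
      H.h u w ≠ 0 → lam u hu0 hu * H.conj (lam w hw0 hw) = 1 := by
    intro u hu0 hu w hw0 hw hne
    have h1 := unit_h g u w
    rw [hlam u hu0 hu, hlam w hw0 hw, H.smul_left, H.smul_right] at h1
    refine mul_right_cancel₀ hne ?_
    linear_combination h1
  have hf0 := p.swap.left_ne_zero
  set μ := lam e p.left_ne_zero p.1 with hμ
  have hconst : ∀ u (hu0 : u ≠ 0) (hu : H.h u u = 0), lam u hu0 hu = μ := by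
    intro u hu0 hu
    obtain ⟨z, hz, h1, h2⟩ := exists_isotropic_nonorth hB hu hu0 p.1 p.left_ne_zero
    have hz0 : z ≠ 0 := by
      intro h0
      exact h1 (by rw [h0, H.zero_left])
    have e1 := key u hu0 hu z hz0 hz fun h0 => h1 (H.h_comm_zero h0)
    have e2 := key e p.left_ne_zero p.1 z hz0 hz fun h0 => h2 (H.h_comm_zero h0)
    exact mul_right_cancel₀ (right_ne_zero_of_mul_eq_one e1) (e1.trans e2.symm)
  refine ⟨μ, ?_, fun x => ?_⟩
  · have := key f hf0 p.2.1 e p.left_ne_zero p.1 (by rw [p.2.2]; exact one_ne_zero)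
    rwa [hconst f hf0 p.2.1] at this
  · have hsing : ∀ u, H.h u u = 0 → g.1 u = μ • u := by
      intro u hu
      by_cases hu0 : u = 0
      · simp [hu0]
      · rw [hlam u hu0 hu, hconst u hu0 hu]
    by_cases hx : H.h x x = 0
    · exact hsing x hx
    obtain ⟨s, hs⟩ := H.exists_trace (H.conj_diag x)
    obtain ⟨u, z, q, hxz⟩ := exists_pair_of_nonisotropic hB hx hs
    rw [hxz, map_add, map_smul, hsing z q.2.1, hsing u q.1]
    module

theorem rootCond_inv_smul {u w : V} {l a : F} (ha : a ≠ 0) (c : RootCond H u w l) :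
    RootCond H (a • u) ((H.conj a)⁻¹ • w) (l / (a * H.conj a)) := by
  obtain ⟨c1, c2, c3⟩ := c
  have hca := H.conj_ne_zero ha
  refine ⟨by rw [H.smul_left, H.smul_right, c1]; ring,
    by rw [H.smul_left, H.smul_right, c2]; ring, ?_⟩
  rw [H.smul_left, H.smul_right, map_inv₀, map_div₀, map_mul, H.conj_conj]
  field_simp
  linear_combination c3

/-- The root subgroup at `u`. -/
def rootGroup (H : HermSpace F V) (u : V) : Subgroup (Unit' H) where
  carrier := {g | g = 1 ∨ ∃ (w : V) (l : F) (c : RootCond H u w l), g = root H u w l c}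
  mul_mem' := by
    rintro a b (rfl | ⟨w, l, c, rfl⟩) (rfl | ⟨w', l', c', rfl⟩)
    · simp
    · exact Or.inr ⟨w', l', c', one_mul _⟩
    · exact Or.inr ⟨w, l, c, mul_one _⟩
    · exact Or.inr ⟨_, _, _, root_mul c c'⟩
  one_mem' := Or.inl rfl
  inv_mem' := by
    rintro a (rfl | ⟨w, l, c, rfl⟩)
    · simp
    · exact Or.inr ⟨_, _, _, root_inv c⟩

theorem rootGroup_le_smul {a : F} (ha : a ≠ 0) (u : V) : rootGroup H u ≤ rootGroup H (a • u) := by
  rintro g (rfl | ⟨w, l, c, rfl⟩)
  · exact one_mem _
  · refine Or.inr ⟨_, _, rootCond_inv_smul ha c, ?_⟩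
    rw [root_smul a ha]
    have hca := H.conj_ne_zero ha
    refine root_congr _ _ rfl ?_ ?_
    · rw [smul_smul, mul_inv_cancel₀ hca, one_smul]
    · field_simp

open scoped commutatorElement in
theorem isSolvable_rootGroup (u : V) : Group.IsSolvable (rootGroup H u) := by
  have hcent : ∀ a b : rootGroup H u, ⁅a, b⁆ ∈ Subgroup.center (rootGroup H u) := by
    intro a b
    rw [Subgroup.mem_center_iff]
    intro g
    apply Subtype.ext
    show (g : Unit' H) * ⁅(a : Unit' H), (b : Unit' H)⁆ = ⁅(a : Unit' H), (b : Unit' H)⁆ * g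
    rcases a.2 with ha | ⟨wa, la, ca, ha⟩
    · rw [ha]; simp
    rcases b.2 with hb | ⟨wb, lb, cb, hb⟩
    · rw [hb]; simp
    rcases g.2 with hg | ⟨wg, lg, cg, hg⟩
    · rw [hg]; simp
    rw [ha, hb, hg, commutatorElement_def, root_inv, root_inv, root_mul, root_mul, root_mul,
      root_mul, root_mul]
    refine root_congr _ _ rfl (by abel) ?_
    simp only [H.add_left, H.add_right, H.neg_left, H.neg_right]
    ring
  set Z := Subgroup.center (rootGroup H u)
  have : Group.IsSolvable Z := Group.isSolvable_of_comm fun a b =>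
    Subtype.ext (Subgroup.mem_center_iff.1 b.2 a.1)
  have : Group.IsSolvable (rootGroup H u ⧸ Z) := Group.isSolvable_of_comm fun a b => by
    obtain ⟨a, rfl⟩ := QuotientGroup.mk'_surjective Z a
    obtain ⟨b, rfl⟩ := QuotientGroup.mk'_surjective Z b
    rw [← commutatorElement_eq_one_iff_mul_comm, ← map_commutatorElement, QuotientGroup.mk'_apply,
      QuotientGroup.eq_one_iff]
    exact hcent a b
  exact Group.isSolvable_of_ker_le_range Z.subtype (QuotientGroup.mk' Z) (by simp)

include hB hP p in
theorem normal_rootGen_dichotomy (N : Subgroup (rootGen H)) (hN : N.Normal) :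
    (∀ n ∈ N, ∃ μ : F, μ * H.conj μ = 1 ∧ ∀ x, n.1.1 x = μ • x) ∨ N = ⊤ := by
  have := iwasawa_normal ((isoPerm H).comp (rootGen H).subtype) (sameLine H)
    (fun g x y hxy => by
      obtain ⟨c, hc⟩ := hxy
      refine ⟨c, ?_⟩
      show c • g.1.1 x.1 = g.1.1 y.1
      rw [← map_smul, hc])
    (primitiveMod_isotropic hB)
    (fun u => (rootGroup H u.1).comap (rootGen H).subtype) ⟨e, p.left_ne_zero, p.1⟩
    (fun x y hxy => by
      obtain ⟨c, hc⟩ := hxy
      have hc0 : c ≠ 0 := by
        rintro rfl
        exact y.2.1 (by rw [← hc, zero_smul])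
      congr 1
      refine le_antisymm ?_ ?_
      · rw [← hc]; exact rootGroup_le_smul hc0 _
      · have h1 := rootGroup_le_smul (H := H) (inv_ne_zero hc0) y.1
        have h2 : c⁻¹ • y.1 = x.1 := by
          rw [← hc, smul_smul, inv_mul_cancel₀ hc0, one_smul]
        rwa [h2] at h1)
    (fun g x t ht => by
      rcases ht with h | ⟨w, l, c, h⟩
      · left
        change (g : Unit' H) * (t : Unit' H) * (g : Unit' H)⁻¹ = 1
        change (t : Unit' H) = 1 at h
        rw [h]
        group
      · right
        change (t : Unit' H) = _ at h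
        refine ⟨g.1.1 w, l, c.map g.1, ?_⟩
        show (g : Unit' H) * (t : Unit' H) * (g : Unit' H)⁻¹ = _
        rw [h, root_conj]
        rfl)
    (by
      refine eq_top_iff.2 ((Subgroup.closure_closure_coe_preimage (k := rootSet H)).ge.trans
        ((Subgroup.closure_le _).2 ?_))
      rintro g ⟨u, w, l, c, h⟩
      by_cases hu0 : u = 0
      · subst hu0
        have hg1 : g = 1 := Subtype.ext (by
          show (g : Unit' H) = 1
          rw [show (g : Unit' H) = _ from h]
          exact unit_ext fun x => by simp [root_apply, H.zero_right])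
        rw [hg1]
        exact one_mem _
      · exact Subgroup.mem_iSup_of_mem (⟨u, hu0, c.1⟩ : IsoVec H) (Or.inr ⟨w, l, c, h⟩))
    (by
      have := isSolvable_rootGroup (H := H) e
      let φ : (rootGroup H e).comap (rootGen H).subtype →* rootGroup H e :=
        { toFun := fun t => ⟨t.1.1, t.2⟩, map_one' := rfl, map_mul' := fun _ _ => rfl }
      exact Group.isSolvable_of_isSolvable_injective (f := φ)
        fun a b hab => Subtype.ext (Subtype.ext (congrArg (fun z : rootGroup H e => z.1) hab)))
    (rootGen_perfect hB hP p) N hN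
  rcases this with h | h
  · left
    intro n hn
    refine scalar_of_fix_lines hB p n.1 fun u hu0 hu => ?_
    obtain ⟨c, hc⟩ := (sameLine H).symm (h n hn ⟨u, hu0, hu⟩)
    exact ⟨c, hc.symm⟩
  · exact Or.inr h

include hB hP p in
/-- A root element moving the line of `e`. -/
theorem exists_transvection_moving : ∃ (l : F) (c : RootCond H f 0 l),
    ¬ ∃ μ : F, ∀ x, (root H f 0 l c).1 x = μ • x := by
  obtain ⟨l, hl0, hl⟩ := H.exists_skew
  refine ⟨l, ⟨p.2.1, H.zero_left f, by rw [H.zero_left]; linear_combination hl⟩, ?_⟩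
  rintro ⟨μ, hμ⟩
  have h1 := congrArg (fun x => H.h x e) (hμ e)
  change H.h (e + H.h e f • (0 : V) + (-(H.h e 0) + l * H.h e f) • f) e = H.h (μ • e) e at h1
  rw [H.zero_right, H.h_comm_one p.2.2, H.add_left, H.add_left, H.smul_left, H.smul_left,
    H.smul_left, H.zero_left, p.1, p.2.2] at h1
  exact hl0 (by linear_combination h1)

include hB hP p in
theorem center_ne_top : Subgroup.center (rootGen H) ≠ ⊤ := by
  intro h
  have hcomm : ∀ a b : rootGen H, a * b = b * a := fun a b =>
    Subgroup.mem_center_iff.1 (by rw [h]; trivial) a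
  obtain ⟨l, c, hne⟩ := exists_transvection_moving hB hP p
  have h1 : commutator (rootGen H) = ⊥ := by
    rw [commutator_def, Subgroup.commutator_eq_bot_iff_le_centralizer]
    intro a _ b _
    exact hcomm b a
  rw [rootGen_perfect hB hP p] at h1
  have h2 : (⟨_, root_mem c⟩ : rootGen H) = 1 := Subgroup.mem_bot.1 (h1 ▸ Subgroup.mem_top _)
  exact hne ⟨1, fun x => by
    have h3 := congrArg (fun g : rootGen H => g.1.1 x) h2
    simpa using h3⟩

include hB hP p in
theorem mem_center_rootGen_iff (g : rootGen H) :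
    g ∈ Subgroup.center (rootGen H) ↔ ∃ μ : F, μ * H.conj μ = 1 ∧ ∀ x, g.1.1 x = μ • x := by
  constructor
  · intro hg
    rcases normal_rootGen_dichotomy hB hP p (Subgroup.center (rootGen H)) inferInstance with h | h
    · exact h g hg
    · exact absurd h (center_ne_top hB hP p)
  · rintro ⟨μ, -, h⟩
    rw [Subgroup.mem_center_iff]
    intro y
    apply Subtype.ext
    refine unit_ext fun x => ?_
    simp [h]

include hB hP p in
theorem isSimpleGroup_rootGen_quot :
    IsSimpleGroup (rootGen H ⧸ Subgroup.center (rootGen H)) := by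
  have : Nontrivial (rootGen H ⧸ Subgroup.center (rootGen H)) :=
    QuotientGroup.nontrivial_iff.mpr (center_ne_top hB hP p)
  refine ⟨fun N hN => ?_⟩
  rcases normal_rootGen_dichotomy hB hP p (N.comap (QuotientGroup.mk' _)) inferInstance with h | h
  · left
    rw [eq_bot_iff]
    intro x hx
    obtain ⟨g, rfl⟩ := QuotientGroup.mk'_surjective _ x
    exact Subgroup.mem_bot.2 ((QuotientGroup.eq_one_iff g).2
      ((mem_center_rootGen_iff hB hP p g).2 (h g hx)))
  · right
    rw [← Subgroup.map_comap_eq_self_of_surjective (QuotientGroup.mk'_surjective _) N, h,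
      Subgroup.map_top_of_surjective _ (QuotientGroup.mk'_surjective _)]

/-- The transvections. -/
def transvectionSet (H : HermSpace F V) : Set (Unit' H) :=
  {g | ∃ (v : V) (c : F) (hc : ShearCond H v c), H.h v v = 0 ∧ g = shear H v c hc}

include hB hP p in
/-- `S` is generated by transvections. -/
theorem closure_transvectionSet : Subgroup.closure (transvectionSet H) = rootGen H := by
  set T := Subgroup.closure (transvectionSet H)
  have hle : T ≤ rootGen H := by
    rw [Subgroup.closure_le]
    rintro _ ⟨v, c, hc, hv, rfl⟩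
    rw [shear_isotropic_eq_root hc hv]
    exact root_mem _
  have hnormal : T.Normal := ⟨fun n hn g => by
    induction hn using Subgroup.closure_induction with
    | mem x hx =>
      obtain ⟨v, c, hc, hv, rfl⟩ := hx
      rw [shear_conj]
      exact Subgroup.subset_closure ⟨_, _, _, by rw [unit_h, hv], rfl⟩
    | one => simp
    | mul x y _ _ hx hy =>
      rw [show g * (x * y) * g⁻¹ = g * x * g⁻¹ * (g * y * g⁻¹) by group]
      exact mul_mem hx hy
    | inv x _ hx =>
      rw [show g * x⁻¹ * g⁻¹ = (g * x * g⁻¹)⁻¹ by group]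
      exact inv_mem hx⟩
  refine le_antisymm hle ?_
  rcases normal_rootGen_dichotomy hB hP p (T.subgroupOf (rootGen H)) inferInstance with h | h
  · exfalso
    obtain ⟨l, c, hne⟩ := exists_transvection_moving hB hP p
    have hsc : ShearCond H f l := by
      unfold ShearCond
      have h3 := c.2.2
      rw [H.zero_left] at h3
      rw [p.2.1]
      linear_combination h3
    have hmem : root H f 0 l c ∈ T :=
      Subgroup.subset_closure ⟨f, l, hsc, p.2.1, (shear_isotropic_eq_root hsc p.2.1).symm⟩
    obtain ⟨μ, -, hμ⟩ := h ⟨_, root_mem c⟩ (Subgroup.mem_subgroupOf.2 hmem)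
    exact hne ⟨μ, hμ⟩
  · exact Subgroup.subgroupOf_eq_top.1 h

end Main

end CfsgLib.Classical.Herm
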