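import Cfsg.Agent.Lib.Classical.Herm.Std
import Mathlib.LinearAlgebra.Matrix.SpecialLinearGroup

/-!
`SU₂(q) ≅ SL₂(q)`: change coordinates so that the Hermitian form becomes `δ (u₀ v̄₁ - u₁ v̄₀)`; the
isometries of determinant one are then the matrices with entries in the fixed field.
-/

set_option autoImplicit false

namespace CfsgLib.Classical.Herm

open Module HermSpace

variable {F : Type*} [Field F] [Fintype F] {q : ℕ}

/-- The skew Hermitian plane. -/
def skewPlane (hF : Fintype.card F = q ^ 2) (δ : F) (hδ0 : δ ≠ 0) (hδ : qPow hF δ = -δ) :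
    HermSpace F (Fin 2 → F) where
  h u v := δ * (u 0 * qPow hF (v 1) - u 1 * qPow hF (v 0))
  conj := qPow hF
  conj_conj := qPow_qPow hF
  conj_ne := exists_qPow_ne hF
  norm_surj := exists_norm_eq hF
  add_left x y z := by simp only [Pi.add_apply]; ring
  smul_left c x y := by simp only [Pi.smul_apply, smul_eq_mul]; ring
  symm' x y := by
    rw [map_mul, map_sub, map_mul, map_mul, qPow_qPow, qPow_qPow, hδ]
    ring
  nondeg x hx := by
    have h0 := hx (Pi.single 1 1)
    have h1 := hx (Pi.single 0 1)
    simp only [Pi.single_eq_same, Pi.single_eq_of_ne (one_ne_zero : (1 : Fin 2) ≠ 0),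
      Pi.single_eq_of_ne (zero_ne_one : (0 : Fin 2) ≠ 1), map_one, map_zero, mul_one, mul_zero,
      sub_zero, zero_sub, mul_neg, neg_eq_zero, mul_eq_zero, hδ0, false_or] at h0 h1
    funext i
    fin_cases i <;> assumption

/-- The fixed field of the involution. -/
def fixedField (hF : Fintype.card F = q ^ 2) : Subfield F :=
  RingHom.eqLocusField (qPow hF) (RingHom.id F)

theorem mem_fixedField {hF : Fintype.card F = q ^ 2} {x : F} :
    x ∈ fixedField hF ↔ qPow hF x = x := Iff.rfl

theorem card_fixedField (hF : Fintype.card F = q ^ 2) : Nat.card (fixedField hF) = q := by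
  classical
  letI := Fintype.ofFinite (fixedField hF)
  have hq := two_le_of_card hF
  have e : (fixedField hF)ˣ ≃ (powMonoidHom (q - 1) : Fˣ →* Fˣ).ker :=
    { toFun := fun u => ⟨Units.map (fixedField hF).subtype.toMonoidHom u,
        (qPow_fixed_unit_iff hF _).1 (mem_fixedField.1 u.1.2)⟩
      invFun := fun u => Units.mk0 ⟨(u.1 : F), mem_fixedField.2 ((qPow_fixed_unit_iff hF _).2 u.2)⟩
        (fun h => u.1.ne_zero (congrArg (fun z : fixedField hF => (z : F)) h))
      left_inv := fun u => Units.ext (Subtype.ext rfl)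
      right_inv := fun u => Subtype.ext (Units.ext rfl) }
  have h := Nat.card_congr e
  rw [card_fixed_units hF, Nat.card_units] at h
  have := Nat.card_pos (α := fixedField hF)
  omega

theorem exists_skewPlane_equiv (hF : Fintype.card F = q ^ 2) :
    ∃ (δ : F) (hδ0 : δ ≠ 0) (hδ : qPow hF δ = -δ) (L : (Fin 2 → F) ≃ₗ[F] (Fin 2 → F)),
      ∀ x y, (skewPlane hF δ hδ0 hδ).h (L x) (L y) = Cfsg.hermForm 2 F q x y := by
  obtain ⟨δ, hδ0, hδ'⟩ := (stdHerm hF 2).exists_skew
  have hδ : qPow hF δ = -δ := by
    change δ + qPow hF δ = 0 at hδ'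
    linear_combination hδ'
  refine ⟨δ, hδ0, hδ, ?_⟩
  set S := skewPlane hF δ hδ0 hδ with hS
  have hS' : ∀ u v, S.h u v = δ * (u 0 * qPow hF (v 1) - u 1 * qPow hF (v 0)) := fun u v => rfl
  obtain ⟨v₁, -, h11⟩ := S.exists_value_in Set.univ id (fun x => trivial) (fun x e _ => rfl)
    (fun _ _ _ _ _ => trivial) (fun _ _ _ => trivial) (e₀ := Pi.single 0 1) trivial
    (fun h => by simpa using congrFun h 0) (c := 1) (map_one _)
  set e₀ : Fin 2 → F := ![qPow hF (v₁ 0), qPow hF (v₁ 1)] with he₀
  have he₀0 : e₀ ≠ 0 := by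
    intro h
    have a0 : qPow hF (v₁ 0) = 0 := congrFun h 0
    have a1 : qPow hF (v₁ 1) = 0 := congrFun h 1
    rw [hS', a0, a1] at h11
    simp at h11
  have he₀v : S.h e₀ v₁ = 0 := by
    rw [hS', he₀]
    simp only [Matrix.cons_val_zero, Matrix.cons_val_one]
    ring
  obtain ⟨v₂, h21, h22⟩ := S.exists_value_in {x | S.h x v₁ = 0}
    (fun x => x + (-(S.h x v₁)) • v₁)
    (fun x => by
      show S.h (x + (-(S.h x v₁)) • v₁) v₁ = 0
      rw [S.add_left, S.smul_left, h11]; ring)
    (fun x e he => by
      simp only [S.add_left, S.smul_left, S.h_comm_zero he]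
      ring)
    (fun a pa b pb c => by
      show S.h (a + c • b) v₁ = 0
      rw [S.add_left, S.smul_left, pa, pb]; ring)
    (fun a pa c => by
      show S.h (c • a) v₁ = 0
      rw [S.smul_left, pa]; ring)
    (e₀ := e₀) he₀v he₀0 (c := 1) (map_one _)
  change S.h v₂ v₁ = 0 at h21
  let L₀ : (Fin 2 → F) →ₗ[F] (Fin 2 → F) :=
    (LinearMap.proj 0 : (Fin 2 → F) →ₗ[F] F).smulRight v₁
      + (LinearMap.proj 1 : (Fin 2 → F) →ₗ[F] F).smulRight v₂
  have hL₀ : ∀ x, L₀ x = x 0 • v₁ + x 1 • v₂ := fun x => rfl
  have hiso : ∀ x y, S.h (L₀ x) (L₀ y) = Cfsg.hermForm 2 F q x y := by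
    intro x y
    rw [hL₀, hL₀, S.add_left, S.add_right, S.add_right, S.smul_left, S.smul_left, S.smul_left,
      S.smul_left, S.smul_right, S.smul_right, S.smul_right, S.smul_right, h11, h22, h21,
      S.h_comm_zero h21, Cfsg.hermForm, Fin.sum_univ_two]
    simp [hS, skewPlane, qPow_apply]
  have hinj : Function.Injective L₀ := by
    rw [← LinearMap.ker_eq_bot, eq_bot_iff]
    intro x hx
    refine (stdHerm hF 2).nondeg x fun y => ?_
    rw [stdHerm_h, ← hiso, LinearMap.mem_ker.1 hx, S.zero_left]
  exact ⟨LinearEquiv.ofInjectiveEndo L₀ hinj, fun x y => hiso x y⟩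

theorem su_two_equiv (hF : Fintype.card F = q ^ 2) :
    Nonempty (Cfsg.SU 2 F q ≃* Matrix.SpecialLinearGroup (Fin 2) (fixedField hF)) := by
  obtain ⟨δ, hδ0, hδ, L, hL⟩ := exists_skewPlane_equiv hF
  set S := skewPlane hF δ hδ0 hδ with hS
  have hS' : ∀ u v, S.h u v = δ * (u 0 * qPow hF (v 1) - u 1 * qPow hF (v 0)) := fun u v => rfl
  -- transport to the skew plane
  let ψ : (detHom (stdHerm hF 2)).ker ≃* (detHom S).ker :=
    { toFun := fun g => ⟨⟨L.symm.trans (g.1.1.trans L), fun x y => by
          show S.h (L (g.1.1 (L.symm x))) (L (g.1.1 (L.symm y))) = S.h x y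
          rw [hL, ← stdHerm_h hF, unit_h, stdHerm_h, ← hL, L.apply_symm_apply, L.apply_symm_apply]⟩,
        (LinearEquiv.det_conj g.1.1 L).trans g.2⟩
      invFun := fun g => ⟨⟨L.trans (g.1.1.trans L.symm), fun x y => by
          show Cfsg.hermForm 2 F q (L.symm (g.1.1 (L x))) (L.symm (g.1.1 (L y))) = _
          rw [← hL, L.apply_symm_apply, L.apply_symm_apply, unit_h, hL]
          rfl⟩,
        by
          show LinearEquiv.det (L.trans (g.1.1.trans L.symm)) = 1
          have h := LinearEquiv.det_conj g.1.1 L.symm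
          rw [LinearEquiv.symm_symm] at h
          exact h.trans g.2⟩
      left_inv := fun g => Subtype.ext (unit_ext fun x => by simp)
      right_inv := fun g => Subtype.ext (unit_ext fun x => by simp)
      map_mul' := fun g g' => Subtype.ext (unit_ext fun x => by simp) }
  have hval : ∀ (B : Matrix.SpecialLinearGroup (Fin 2) (fixedField hF)) (x : Fin 2 → F) (i : Fin 2),
      Matrix.SpecialLinearGroup.toLin' (Matrix.SpecialLinearGroup.map (fixedField hF).subtype B) x i
        = (B i 0 : F) * x 0 + (B i 1 : F) * x 1 := by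
    intro B x i
    rw [Matrix.SpecialLinearGroup.toLin'_apply, Matrix.toLin'_apply]
    simp [Matrix.mulVec, dotProduct, Fin.sum_univ_two]
  have hdetB : ∀ B : Matrix.SpecialLinearGroup (Fin 2) (fixedField hF),
      (B 0 0 : F) * (B 1 1 : F) - (B 0 1 : F) * (B 1 0 : F) = 1 := by
    intro B
    have h := B.det_coe
    rw [Matrix.det_fin_two] at h
    exact congrArg (fun z : fixedField hF => (z : F)) h
  let φ : Matrix.SpecialLinearGroup (Fin 2) (fixedField hF) →* (detHom S).ker :=
    { toFun := fun B => ⟨⟨Matrix.SpecialLinearGroup.toLin'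
          (Matrix.SpecialLinearGroup.map (fixedField hF).subtype B), fun x y => by
          rw [hS', hS', hval, hval, hval, hval]
          have f : ∀ i j, qPow hF (B i j : F) = (B i j : F) := fun i j => mem_fixedField.1 (B i j).2
          simp only [map_add, map_mul, f]
          linear_combination δ * (x 0 * qPow hF (y 1) - x 1 * qPow hF (y 0)) * hdetB B⟩,
        by
          apply Units.ext
          show ((LinearEquiv.det (Matrix.SpecialLinearGroup.toLin'
            (Matrix.SpecialLinearGroup.map (fixedField hF).subtype B))) : F) = 1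
          rw [LinearEquiv.coe_det,
            show ((Matrix.SpecialLinearGroup.toLin'
              (Matrix.SpecialLinearGroup.map (fixedField hF).subtype B) :
                (Fin 2 → F) ≃ₗ[F] Fin 2 → F) : (Fin 2 → F) →ₗ[F] Fin 2 → F)
              = Matrix.toLin' (Matrix.SpecialLinearGroup.map (fixedField hF).subtype B :
                Matrix (Fin 2) (Fin 2) F) from rfl,
            LinearMap.det_toLin', Matrix.SpecialLinearGroup.det_coe]⟩
      map_one' := Subtype.ext (unit_ext fun x => by simp)
      map_mul' := fun B B' => Subtype.ext (unit_ext fun x => by simp [map_mul]) }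
  have hφ : ∀ (B : Matrix.SpecialLinearGroup (Fin 2) (fixedField hF)) x i,
      (φ B).1.1 x i = (B i 0 : F) * x 0 + (B i 1 : F) * x 1 := hval
  have hinj : Function.Injective φ := by
    intro B B' hBB
    have h : ∀ x i, (φ B).1.1 x i = (φ B').1.1 x i := fun x i => by rw [hBB]
    refine Matrix.SpecialLinearGroup.ext _ _ fun i j => Subtype.ext ?_
    fin_cases j
    · have := h (Pi.single 0 1) i
      rw [hφ, hφ] at this
      simpa using this
    · have := h (Pi.single 1 1) i
      rw [hφ, hφ] at this
      simpa using this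
  have hsurj : Function.Surjective φ := by
    intro g
    set a := g.1.1 (Pi.single 0 1) 0 with ha
    set c := g.1.1 (Pi.single 0 1) 1 with hc
    set b := g.1.1 (Pi.single 1 1) 0 with hb
    set d := g.1.1 (Pi.single 1 1) 1 with hd
    have hg : ∀ x, g.1.1 x = x 0 • g.1.1 (Pi.single 0 1) + x 1 • g.1.1 (Pi.single 1 1) := fun x => by
      rw [← map_smul, ← map_smul, ← map_add]
      congr 1
      funext i
      fin_cases i <;> simp
    have hdet : a * d - b * c = 1 := by
      have h := congrArg Units.val g.2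
      change ((LinearEquiv.det g.1.1) : F) = 1 at h
      rw [LinearEquiv.coe_det, ← LinearMap.det_toMatrix', Matrix.det_fin_two] at h
      simpa [LinearMap.toMatrix'_apply, ← Pi.single_apply] using h
    have e1 := unit_h g.1 (Pi.single 0 1) (Pi.single 0 1)
    have e2 := unit_h g.1 (Pi.single 1 1) (Pi.single 1 1)
    have e3 := unit_h g.1 (Pi.single 0 1) (Pi.single 1 1)
    rw [hS', hS'] at e1 e2 e3
    simp only [← ha, ← hb, ← hc, ← hd] at e1 e2 e3
    simp [hδ0, -qPow_apply] at e1 e2 e3
    have e4 : d * qPow hF a - b * qPow hF c = 1 := by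
      have h := congrArg (qPow hF) e3
      simp only [map_sub, map_mul, qPow_qPow, map_one] at h
      linear_combination h
    have ed : qPow hF a * qPow hF d - qPow hF b * qPow hF c = 1 := by
      have h := congrArg (qPow hF) hdet
      simpa only [map_sub, map_mul, map_one] using h
    have fa : qPow hF a = a := by linear_combination (-(qPow hF a)) * e3 + a * ed + qPow hF b * e1
    have fc : qPow hF c = c := by linear_combination (-(qPow hF c)) * e3 + c * ed + qPow hF d * e1
    have fb : qPow hF b = b := by linear_combination (-(qPow hF b)) * e4 + b * ed - qPow hF a * e2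
    have fd : qPow hF d = d := by linear_combination (-(qPow hF d)) * e4 + d * ed - qPow hF c * e2
    refine ⟨⟨!![⟨a, mem_fixedField.2 fa⟩, ⟨b, mem_fixedField.2 fb⟩;
        ⟨c, mem_fixedField.2 fc⟩, ⟨d, mem_fixedField.2 fd⟩], ?_⟩,
      Subtype.ext (unit_ext fun x => funext fun i => ?_)⟩
    · rw [Matrix.det_fin_two_of]
      exact Subtype.ext hdet
    · refine (hφ _ x i).trans ?_
      rw [hg x]
      fin_cases i <;> simp [ha, hb, hc, hd] <;> ring
  exact ⟨((suEquiv hF 2).trans ψ).trans (MulEquiv.ofBijective φ ⟨hinj, hsurj⟩).symm⟩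

end CfsgLib.Classical.Herm
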