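import Cfsg.Agent.Lib.Classical.Herm.Std
import Cfsg.Agent.Lib.Classical.Herm.SU2
import Cfsg.Agent.Lib.Linear.Card

/-!
Consequences for the matrix groups: unitary transvection matrices, `SU₂ ≅ SL₂`, `|PSU_n|`,
`GU / (SU · Z)`.
-/

set_option autoImplicit false

namespace CfsgLib.Classical.Herm

open Module HermSpace

variable {F : Type*} [Field F] [Fintype F] {q : ℕ}

/-- An element of `SU` given by a transvection matrix acts as a shear. -/
theorem unitaryTransvection_mulVec (n : ℕ) (v : Fin n → F) (c : F) (x : Fin n → F) :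
    (Cfsg.unitaryTransvection n q v c).mulVec x = x + (c * Cfsg.hermForm n F q x v) • v := by
  rw [Cfsg.unitaryTransvection, Matrix.add_mulVec, Matrix.one_mulVec, Matrix.smul_mulVec,
    Matrix.vecMulVec_mulVec]
  funext i
  simp [Cfsg.hermForm, dotProduct, mul_comm, mul_left_comm]

theorem shear_isometry_iff (hF : Fintype.card F = q ^ 2) {n : ℕ} {v : Fin n → F} (hv : v ≠ 0)
    (hv0 : Cfsg.hermForm n F q v v = 0) (c : F) :
    (∀ x y, Cfsg.hermForm n F q ((Cfsg.unitaryTransvection n q v c).mulVec x)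
      ((Cfsg.unitaryTransvection n q v c).mulVec y) = Cfsg.hermForm n F q x y)
      ↔ c + c ^ q = 0 := by
  set H := stdHerm hF n
  constructor
  · intro h
    obtain ⟨z, hz⟩ := H.exists_h_one hv
    have h1 := h z z
    rw [unitaryTransvection_mulVec] at h1
    change H.h (z + (c * H.h z v) • v) (z + (c * H.h z v) • v) = H.h z z at h1
    rw [H.add_left, H.add_right, H.add_right, H.smul_left, H.smul_left, H.smul_right, H.smul_right,
      hz, H.h_comm_one hz, show H.h v v = 0 from hv0] at h1
    simp only [mul_one, mul_zero, add_zero] at h1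
    have h2 : c + H.conj c = 0 := by linear_combination h1
    exact h2
  · intro h x y
    have hc : ShearCond H v c := by
      unfold ShearCond
      rw [show H.h v v = 0 from hv0, mul_zero, add_zero]
      exact h
    rw [unitaryTransvection_mulVec, unitaryTransvection_mulVec]
    exact (shear H v c hc).2 x y

theorem add_pow_eq_zero_iff (hF : Fintype.card F = q ^ 2) (c : F) :
    c + c ^ q = 0 ↔ c = 0 ∨ c ^ (q - 1) = -1 := by
  have hq := two_le_of_card hF
  have h : c + c ^ q = c * (c ^ (q - 1) + 1) := by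
    rw [mul_add, mul_one, ← pow_succ', Nat.sub_add_cancel (by omega), add_comm]
  rw [h, mul_eq_zero, add_eq_zero_iff_eq_neg]

/-- Generation by transvections, for the matrix group. -/
theorem su_generated_transvections (hF : Fintype.card F = q ^ 2) {n : ℕ} (hn : 3 ≤ n)
    (h32 : ¬ (n = 3 ∧ q = 2)) :
    Subgroup.closure {A : Cfsg.SU n F q | ∃ (v : Fin n → F) (c : F), Cfsg.hermForm n F q v v = 0 ∧
      ((A : Matrix.SpecialLinearGroup (Fin n) F) : Matrix (Fin n) (Fin n) F)
        = Cfsg.unitaryTransvection n q v c} = ⊤ := by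
  obtain ⟨e, f, p⟩ := exists_pair_std hF hn
  set ψ := suEquivRoot hF hn
  have happly : ∀ (A : Cfsg.SU n F q) x, (ψ A).1.1 x =
      ((A : Matrix.SpecialLinearGroup (Fin n) F) : Matrix (Fin n) (Fin n) F).mulVec x :=
    suEquiv_apply hF n
  rw [eq_top_iff]
  intro A _
  have hA : (ψ A).1 ∈ Subgroup.closure (transvectionSet (stdHerm hF n)) := by
    rw [closure_transvectionSet (big_std hF hn) (perfectable_std hF hn h32) p]
    exact (ψ A).2
  suffices h : ∀ g, g ∈ Subgroup.closure (transvectionSet (stdHerm hF n)) → ∀ A : Cfsg.SU n F q,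
      (ψ A).1 = g → A ∈ Subgroup.closure {A : Cfsg.SU n F q | ∃ (v : Fin n → F) (c : F),
        Cfsg.hermForm n F q v v = 0 ∧
        ((A : Matrix.SpecialLinearGroup (Fin n) F) : Matrix (Fin n) (Fin n) F)
          = Cfsg.unitaryTransvection n q v c} from h _ hA A rfl
  intro g hg
  induction hg using Subgroup.closure_induction with
  | mem x hx =>
    intro A hA
    obtain ⟨v, c, hc, hv, rfl⟩ := hx
    refine Subgroup.subset_closure ⟨v, c, hv, ?_⟩
    apply Matrix.toLin'.injective
    refine LinearMap.ext fun y => ?_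
    rw [Matrix.toLin'_apply, Matrix.toLin'_apply, ← happly, hA, unitaryTransvection_mulVec]
    rfl
  | one =>
    intro A hA
    have : A = 1 := ψ.injective (Subtype.ext (hA.trans (by simp)))
    rw [this]
    exact one_mem _
  | mul x y hx hy ihx ihy =>
    intro A hA
    have hle : Subgroup.closure (transvectionSet (stdHerm hF n)) = rootGen (stdHerm hF n) :=
      closure_transvectionSet (big_std hF hn) (perfectable_std hF hn h32) p
    have hxm : x ∈ rootGen (stdHerm hF n) := hle ▸ hx
    have hym : y ∈ rootGen (stdHerm hF n) := hle ▸ hy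
    obtain ⟨X, hX⟩ := ψ.surjective ⟨x, hxm⟩
    obtain ⟨Y, hY⟩ := ψ.surjective ⟨y, hym⟩
    have : A = X * Y := ψ.injective (Subtype.ext (by rw [map_mul, hX, hY, hA]; rfl))
    rw [this]
    exact mul_mem (ihx X (by rw [hX])) (ihy Y (by rw [hY]))
  | inv x hx ih =>
    intro A hA
    have h1 : (ψ A⁻¹).1 = x := by rw [map_inv, InvMemClass.coe_inv, hA, inv_inv]
    simpa using inv_mem (ih A⁻¹ h1)

open scoped commutatorElement in
/-- Transvections are commutators. -/
theorem transvection_mem_commutatorSet (hF : Fintype.card F = q ^ 2) {n : ℕ} (hn : 3 ≤ n)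
    (A : Cfsg.SU n F q) (v : Fin n → F) (c : F) (hv0 : Cfsg.hermForm n F q v v = 0)
    (hA : ((A : Matrix.SpecialLinearGroup (Fin n) F) : Matrix (Fin n) (Fin n) F)
      = Cfsg.unitaryTransvection n q v c) :
    A ∈ commutatorSet (Cfsg.SU n F q) := by
  set H := stdHerm hF n with hH
  have happly : ∀ x, ((suEquivRoot hF hn) A).1.1 x = x + (c * H.h x v) • v := fun x => by
    have h : ((suEquivRoot hF hn) A).1.1 x =
        ((A : Matrix.SpecialLinearGroup (Fin n) F) : Matrix (Fin n) (Fin n) F).mulVec x :=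
      suEquiv_apply hF n A x
    rw [h, hA, unitaryTransvection_mulVec]
    rfl
  by_cases hv : v = 0
  · have : A = 1 := (suEquivRoot hF hn).injective (Subtype.ext (unit_ext fun x => by rw [happly, hv]; simp))
    rw [this]
    exact ⟨1, 1, by simp⟩
  have hiso : c + c ^ q = 0 := (shear_isometry_iff hF hv hv0 c).1 fun x y => by
    rw [← hA, ← suEquiv_apply hF n A x, ← suEquiv_apply hF n A y]
    exact unit_h (H := stdHerm hF n) (suEquiv hF n A).1 x y
  have hr : RootCond H v 0 c := ⟨hv0, H.zero_left v, by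
    rw [H.zero_left, add_zero]; exact hiso⟩
  obtain ⟨a, b, ha, hb, hab⟩ := root_zero_eq_commutator (big_std hF hn) hr hv
  refine ⟨(suEquivRoot hF hn).symm ⟨a, ha⟩, (suEquivRoot hF hn).symm ⟨b, hb⟩, (suEquivRoot hF hn).injective ?_⟩
  rw [map_commutatorElement, MulEquiv.apply_symm_apply, MulEquiv.apply_symm_apply]
  apply Subtype.ext
  show ⁅a, b⁆ = ((suEquivRoot hF hn) A).1
  rw [← hab]
  refine unit_ext fun x => ?_
  rw [happly, root_apply, H.zero_right]
  module

theorem nonempty_fixedField_equiv {K : Type*} [Field K] [Fintype K] (hF : Fintype.card F = q ^ 2)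
    (hK : Fintype.card K = q) :
    Nonempty (Matrix.SpecialLinearGroup (Fin 2) (fixedField hF) ≃*
      Matrix.SpecialLinearGroup (Fin 2) K) := by
  classical
  letI := Fintype.ofFinite (fixedField hF)
  have hcard : Fintype.card (fixedField hF) = Fintype.card K := by
    rw [← Nat.card_eq_fintype_card, card_fixedField, hK]
  let e := FiniteField.ringEquivOfCardEq hcard
  exact ⟨{ toFun := Matrix.SpecialLinearGroup.map e.toRingHom
           invFun := Matrix.SpecialLinearGroup.map e.symm.toRingHom
           left_inv := fun A => by ext i j; simp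
           right_inv := fun A => by ext i j; simp
           map_mul' := map_mul _ }⟩

theorem card_center_su_two (hF : Fintype.card F = q ^ 2) :
    Nat.card (Subgroup.center (Cfsg.SU 2 F q)) = Nat.gcd 2 (q + 1) := by
  classical
  letI := Fintype.ofFinite (fixedField hF)
  obtain ⟨ψ⟩ := su_two_equiv hF
  have h1 : Nat.card (Subgroup.center (Cfsg.SU 2 F q)) =
      Nat.card (Subgroup.center (Matrix.SpecialLinearGroup (Fin 2) (fixedField hF))) := by
    refine Nat.card_congr (ψ.toEquiv.subtypeEquiv fun a => ?_)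
    constructor
    · intro ha
      refine Subgroup.mem_center_iff.2 fun b => ?_
      obtain ⟨b', rfl⟩ := ψ.surjective b
      show ψ b' * ψ a = ψ a * ψ b'
      rw [← map_mul, ← map_mul, Subgroup.mem_center_iff.1 ha]
    · intro ha
      refine Subgroup.mem_center_iff.2 fun b => ψ.injective ?_
      rw [map_mul, map_mul]
      exact Subgroup.mem_center_iff.1 ha (ψ b)
  rw [h1, CfsgLib.Linear.card_center_SL, ← Nat.card_eq_fintype_card, card_fixedField,
    Fintype.card_fin, Nat.gcd_comm]
  have hq := two_le_of_card hF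
  rcases Nat.even_or_odd q with he | ho
  · have a1 : Nat.gcd 2 (q - 1) = 1 := Nat.coprime_two_left.2 (Nat.Even.sub_odd (by omega) he odd_one)
    have a2 : Nat.gcd 2 (q + 1) = 1 := Nat.coprime_two_left.2 he.add_one
    rw [a1, a2]
  · rw [Nat.odd_iff] at ho
    rw [Nat.gcd_eq_left (show 2 ∣ q - 1 by omega), Nat.gcd_eq_left (show 2 ∣ q + 1 by omega)]

theorem card_center_su' (hF : Fintype.card F = q ^ 2) {n : ℕ} (hn : 2 ≤ n) :
    Nat.card (Subgroup.center (Cfsg.SU n F q)) = Nat.gcd n (q + 1) := by
  rcases Nat.lt_or_ge n 3 with h | h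
  · obtain rfl : n = 2 := by omega
    exact card_center_su_two hF
  · exact card_center_su hF h

theorem card_psu (hF : Fintype.card F = q ^ 2) {n : ℕ} (hn : 2 ≤ n) :
    Nat.gcd n (q + 1) * ((q + 1) * Nat.card (Cfsg.PSU n F q)) = q ^ (n * (n - 1) / 2) *
      ∏ i ∈ Finset.range n, (if Even i then q ^ (i + 1) + 1 else q ^ (i + 1) - 1) := by
  rw [← card_unit hF n, ← card_unit_eq_mul_su hF (by omega : 1 ≤ n),
    Subgroup.card_eq_card_quotient_mul_card_subgroup (Subgroup.center (Cfsg.SU n F q)),
    card_center_su' hF hn]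
  ring

/-- `GU / (SU · Z)` is cyclic of order `gcd(n, q+1)`. -/
theorem exists_gu_quotient (hF : Fintype.card F = q ^ 2) {n : ℕ} (hn : 1 ≤ n) :
    ∃ φ : Cfsg.GU n F q →* Multiplicative (ZMod (Nat.gcd n (q + 1))), Function.Surjective φ ∧
      φ.ker = (Matrix.GeneralLinearGroup.det : Matrix.GeneralLinearGroup (Fin n) F →* Fˣ).ker.subgroupOf
        (Cfsg.GU n F q) ⊔ Subgroup.center (Cfsg.GU n F q) := by
  set N1 : Subgroup Fˣ := (powMonoidHom (q + 1) : Fˣ →* Fˣ).ker with hN1
  let dt : Cfsg.GU n F q →* N1 :=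
    { toFun := fun g => ⟨Matrix.GeneralLinearGroup.det g.1, by
        rw [← detHom_guEquiv hF n g]; exact detHom_normOne hF n _⟩
      map_one' := Subtype.ext (map_one _)
      map_mul' := fun a b => Subtype.ext (map_mul _ _ _) }
  have hdsurj : Function.Surjective dt := by
    rintro ⟨μ, hμ⟩
    rw [hN1, ← range_detHom hF hn] at hμ
    obtain ⟨g, hg⟩ := hμ
    refine ⟨(guEquiv hF n).symm g, Subtype.ext ?_⟩
    show Matrix.GeneralLinearGroup.det _ = μ
    rw [← detHom_guEquiv hF n, MulEquiv.apply_symm_apply, hg]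
  set R : Subgroup N1 := (powMonoidHom n : N1 →* N1).range with hR
  have hcard : Nat.card (N1 ⧸ R) = Nat.gcd n (q + 1) := by
    rw [← Subgroup.index_eq_card, IsCyclic.index_powMonoidHom_range, hN1, card_normOne_units hF,
      Nat.gcd_comm]
  have hpos : Nat.gcd n (q + 1) ≠ 0 := by simp
  haveI : NeZero (Nat.gcd n (q + 1)) := ⟨hpos⟩
  haveI : IsCyclic (N1 ⧸ R) := isCyclic_of_surjective (QuotientGroup.mk' R) (QuotientGroup.mk'_surjective R)
  let ψ : N1 ⧸ R ≃* Multiplicative (ZMod (Nat.gcd n (q + 1))) :=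
    mulEquivOfCyclicCardEq (by simp [hcard])
  refine ⟨ψ.toMonoidHom.comp ((QuotientGroup.mk' R).comp dt),
    ψ.surjective.comp ((QuotientGroup.mk'_surjective R).comp hdsurj), ?_⟩
  refine le_antisymm (fun g hg => ?_) (sup_le (fun g hg => ?_) (fun g hg => ?_))
  · rw [MonoidHom.mem_ker, MonoidHom.comp_apply, MonoidHom.comp_apply] at hg
    rw [MulEquiv.coe_toMonoidHom, MulEquiv.map_eq_one_iff, QuotientGroup.mk'_apply,
      QuotientGroup.eq_one_iff] at hg
    obtain ⟨μ, hμ⟩ := hg
    have hμN : ((μ.1 : Fˣ) : F) * qPow hF ((μ.1 : Fˣ) : F) = 1 := by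
      have h : μ.1 ∈ (powMonoidHom (q + 1) : Fˣ →* Fˣ).ker := μ.2
      rw [MonoidHom.mem_ker, powMonoidHom_apply] at h
      rw [qPow_apply, ← pow_succ', ← Units.val_pow_eq_pow_val, h, Units.val_one]
    set z : Matrix.GeneralLinearGroup (Fin n) F := Matrix.GeneralLinearGroup.scalar (Fin n) μ.1
    have hzv : ∀ x : Fin n → F,
        (z : Matrix (Fin n) (Fin n) F).mulVec x = ((μ.1 : Fˣ) : F) • x := fun x => by
      funext i
      simp [z, Matrix.mulVec_diagonal]
    have hzGU : z ∈ Cfsg.GU n F q := fun x y => by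
      simp only [Units.coeHom_apply, hzv]
      show (stdHerm hF n).h _ _ = (stdHerm hF n).h x y
      rw [(stdHerm hF n).smul_left, (stdHerm hF n).smul_right, ← mul_assoc]
      exact (congrArg (· * _) hμN).trans (one_mul _)
    have hzc : (⟨z, hzGU⟩ : Cfsg.GU n F q) ∈ Subgroup.center (Cfsg.GU n F q) := by
      refine Subgroup.mem_center_iff.2 fun a => Subtype.ext (Units.ext ?_)
      show (a.1 : Matrix (Fin n) (Fin n) F) * (z : Matrix (Fin n) (Fin n) F)
        = (z : Matrix (Fin n) (Fin n) F) * (a.1 : Matrix (Fin n) (Fin n) F)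
      rw [show ((z : Matrix (Fin n) (Fin n) F)) = ((μ.1 : Fˣ) : F) • (1 : Matrix (Fin n) (Fin n) F) by
        simp [z, Matrix.smul_one_eq_diagonal]]
      rw [Matrix.mul_smul, Matrix.smul_mul, Matrix.mul_one, Matrix.one_mul]
    have h1 : g * (⟨z, hzGU⟩ : Cfsg.GU n F q)⁻¹ ∈
        (Matrix.GeneralLinearGroup.det : Matrix.GeneralLinearGroup (Fin n) F →* Fˣ).ker.subgroupOf
          (Cfsg.GU n F q) := by
      rw [Subgroup.mem_subgroupOf, MonoidHom.mem_ker]
      show Matrix.GeneralLinearGroup.det (g.1 * z⁻¹) = 1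
      have hd : Matrix.GeneralLinearGroup.det z = μ.1 ^ n := Units.ext (by
        simp [z, Matrix.det_diagonal])
      have hμ' : μ.1 ^ n = Matrix.GeneralLinearGroup.det g.1 := congrArg Subtype.val hμ
      rw [map_mul, map_inv, hd, hμ', mul_inv_cancel]
    rw [show g = g * (⟨z, hzGU⟩ : Cfsg.GU n F q)⁻¹ * ⟨z, hzGU⟩ by group]
    exact mul_mem (Subgroup.mem_sup_left h1) (Subgroup.mem_sup_right hzc)
  · rw [MonoidHom.mem_ker, MonoidHom.comp_apply, MonoidHom.comp_apply,
      show dt g = 1 from Subtype.ext hg, map_one, map_one]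
  · rw [MonoidHom.mem_ker, MonoidHom.comp_apply, MonoidHom.comp_apply, MulEquiv.coe_toMonoidHom,
      MulEquiv.map_eq_one_iff, QuotientGroup.mk'_apply, QuotientGroup.eq_one_iff]
    -- a central element of `GU` is a scalar
    set G := guEquiv hF n g
    have hcomm : ∀ k : Unit' (stdHerm hF n), k * G = G * k := fun k => by
      obtain ⟨k', rfl⟩ := (guEquiv hF n).surjective k
      rw [← map_mul, ← map_mul, Subgroup.mem_center_iff.1 hg]
    have hq := two_le_of_card hF
    have hq' : q ≠ 0 := by omega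
    have hline : ∀ v : Fin n → F, (stdHerm hF n).h v v = 1 → G.1 v = (stdHerm hF n).h (G.1 v) v • v := by
      intro v hv
      obtain ⟨l, hl, hl1⟩ := (stdHerm hF n).exists_norm_one_ne_one
      have hc : ShearCond (stdHerm hF n) v (l - 1) := by
        unfold ShearCond
        rw [hv, map_sub, map_one]
        linear_combination hl
      have h1 := congrArg (fun k : Unit' (stdHerm hF n) => k.1 v) (hcomm (shear _ v _ hc))
      simp only [mul_apply, shear_apply, hv, mul_one, map_add, map_smul] at h1
      have h2 : (l - 1) • G.1 v = (l - 1) • ((stdHerm hF n).h (G.1 v) v • v) := by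
        linear_combination (norm := module) -h1
      exact smul_right_injective _ (sub_ne_zero.2 hl1) h2
    set i₀ : Fin n := ⟨0, hn⟩
    set E : Fin n → Fin n → F := fun i => Pi.single i 1
    have hE : ∀ i j, (stdHerm hF n).h (E i) (E j) = if i = j then 1 else 0 := fun i j => by
      rw [stdHerm_h, Cfsg.hermForm, Finset.sum_eq_single i (fun k _ hk => by simp [E, hk]) (by simp)]
      by_cases h : i = j
      · subst h; simp [E]
      · simp [E, h, zero_pow hq']
    set lam := fun i => (stdHerm hF n).h (G.1 (E i)) (E i)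
    have hGE : ∀ i, G.1 (E i) = lam i • E i := fun i => hline _ (by rw [hE, if_pos rfl])
    have hlam : ∀ i, lam i = lam i₀ := by
      intro i
      by_cases hi : i = i₀
      · rw [hi]
      -- move the first basis vector to the other by an isometry
      obtain ⟨k, hk⟩ := exists_map_norm_one (H := stdHerm hF n) (u := E i₀) (w := E i)
        (by rw [hE, if_pos rfl]) (by rw [hE, if_pos rfl])
      have h1 := congrArg (fun t : Unit' (stdHerm hF n) => t.1 (E i₀)) (hcomm k)
      simp only [mul_apply, hGE, map_smul, hk] at h1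
      have h2 := congrFun h1 i
      simpa [E] using h2.symm
    have hN : lam i₀ * qPow hF (lam i₀) = 1 := by
      have h1 := unit_h G (E i₀) (E i₀)
      rw [hGE, (stdHerm hF n).smul_left, (stdHerm hF n).smul_right, hE, if_pos rfl, mul_one] at h1
      exact h1
    set μ : Fˣ := Units.mk0 (lam i₀) (left_ne_zero_of_mul_eq_one hN)
    have hμ : μ ∈ N1 := by
      rw [hN1, MonoidHom.mem_ker, powMonoidHom_apply]
      apply Units.ext
      rw [Units.val_pow_eq_pow_val, Units.val_one, pow_succ']
      exact hN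
    refine ⟨⟨μ, hμ⟩, Subtype.ext ?_⟩
    show μ ^ n = Matrix.GeneralLinearGroup.det g.1
    rw [← detHom_guEquiv hF n g]
    apply Units.ext
    show (μ : F) ^ n = (LinearEquiv.det G.1 : F)
    have hall : (G.1 : (Fin n → F) →ₗ[F] Fin n → F) = (μ : F) • LinearMap.id := by
      refine LinearMap.pi_ext' fun i => LinearMap.ext_ring ?_
      simp only [LinearMap.coe_comp, LinearMap.coe_single, Function.comp_apply, LinearEquiv.coe_coe,
        LinearMap.smul_apply, LinearMap.id_coe, id_eq]
      exact (hGE i).trans (by rw [hlam i]; rfl)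
    rw [LinearEquiv.coe_det, hall, LinearMap.det_smul, LinearMap.det_id, mul_one, Module.finrank_fin_fun]

end CfsgLib.Classical.Herm
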