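import Mathlib.LinearAlgebra.Transvection.Basic
import Mathlib.LinearAlgebra.FiniteDimensional.Lemmas
import Mathlib.LinearAlgebra.Determinant
import Mathlib.Tactic.LinearCombination
import Mathlib.Tactic.FieldSimp
import Mathlib.Tactic.Ring
import Mathlib.Tactic.Module

/-!
Hermitian spaces over a field with involution: isometries, shears (transvections and quasi-reflections),
root elements, transitivity, and the structure `U = S · {shears at one vector}` with
`S = {det = 1}` the group generated by the root elements.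
-/

set_option autoImplicit false

namespace CfsgLib.Classical.Herm

open Module

/-- A non-degenerate Hermitian form with respect to a non-trivial involution whose norm is onto the fixed field. -/
structure HermSpace (F V : Type*) [Field F] [AddCommGroup V] [Module F V] where
  h : V → V → F
  conj : F →+* F
  conj_conj : ∀ a, conj (conj a) = a
  conj_ne : ∃ a, conj a ≠ a
  norm_surj : ∀ c, conj c = c → ∃ t, t * conj t = c
  add_left : ∀ x y z, h (x + y) z = h x z + h y z
  smul_left : ∀ (c : F) (x y : V), h (c • x) y = c * h x y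
  symm' : ∀ x y, conj (h x y) = h y x
  nondeg : ∀ x, (∀ y, h x y = 0) → x = 0

variable {F V : Type*} [Field F] [AddCommGroup V] [Module F V] (H : HermSpace F V)

namespace HermSpace

theorem add_right (x y z : V) : H.h x (y + z) = H.h x y + H.h x z := by
  rw [← H.symm' (y + z) x, H.add_left, map_add, H.symm', H.symm']

theorem smul_right (c : F) (x y : V) : H.h x (c • y) = H.conj c * H.h x y := by
  rw [← H.symm' (c • y) x, H.smul_left, map_mul, H.symm']

theorem zero_left (x : V) : H.h 0 x = 0 := by
  rw [← zero_smul F (0 : V), H.smul_left, zero_mul]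

theorem zero_right (x : V) : H.h x 0 = 0 := by
  rw [← zero_smul F (0 : V), H.smul_right, map_zero, zero_mul]

theorem neg_left (x y : V) : H.h (-x) y = -H.h x y := by
  rw [← neg_one_smul F x, H.smul_left, neg_one_mul]

theorem neg_right (x y : V) : H.h x (-y) = -H.h x y := by
  rw [← neg_one_smul F y, H.smul_right, map_neg, map_one, neg_one_mul]

theorem sub_left (x y z : V) : H.h (x - y) z = H.h x z - H.h y z := by
  rw [sub_eq_add_neg, H.add_left, H.neg_left, sub_eq_add_neg]

theorem sub_right (x y z : V) : H.h x (y - z) = H.h x y - H.h x z := by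
  rw [sub_eq_add_neg, H.add_right, H.neg_right, sub_eq_add_neg]

theorem conj_diag (x : V) : H.conj (H.h x x) = H.h x x := H.symm' x x

theorem h_comm_zero {x y : V} (e : H.h x y = 0) : H.h y x = 0 := by
  rw [← H.symm', e, map_zero]

theorem h_comm_one {x y : V} (e : H.h x y = 1) : H.h y x = 1 := by
  rw [← H.symm', e, map_one]

theorem conj_ne_zero {a : F} (ha : a ≠ 0) : H.conj a ≠ 0 :=
  (map_ne_zero H.conj).2 ha

/-- A trace-zero non-zero element. -/
theorem exists_skew : ∃ l, l ≠ 0 ∧ l + H.conj l = 0 := by
  obtain ⟨a, ha⟩ := H.conj_ne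
  exact ⟨a - H.conj a, sub_ne_zero.2 (Ne.symm ha), by rw [map_sub, H.conj_conj]; ring⟩

/-- An element of trace one. -/
theorem exists_trace_one : ∃ t, t + H.conj t = 1 := by
  obtain ⟨x, hx⟩ : ∃ x, x + H.conj x ≠ 0 := by
    by_contra hcon
    push Not at hcon
    obtain ⟨a, ha⟩ := H.conj_ne
    have h2 := hcon 1
    rw [map_one] at h2
    exact ha (by linear_combination hcon a - a * h2)
  refine ⟨x / (x + H.conj x), ?_⟩
  rw [map_div₀, map_add, H.conj_conj, add_comm (H.conj x) x, ← add_div, div_self hx]

/-- The trace is onto the fixed field. -/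
theorem exists_trace {c : F} (hc : H.conj c = c) : ∃ t, t + H.conj t = c := by
  obtain ⟨t, ht⟩ := H.exists_trace_one
  exact ⟨c * t, by rw [map_mul, hc, ← mul_add, ht, mul_one]⟩

/-- A norm-one element other than one. -/
theorem exists_norm_one_ne_one : ∃ l, l * H.conj l = 1 ∧ l ≠ 1 := by
  obtain ⟨a, ha⟩ := H.conj_ne
  have ha0 : a ≠ 0 := fun h0 => ha (by rw [h0, map_zero])
  have hb0 := H.conj_ne_zero ha0
  refine ⟨H.conj a / a, ?_, fun h1 => ha ((div_eq_one_iff_eq ha0).1 h1)⟩
  rw [map_div₀, H.conj_conj]
  field_simp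

/-- `h x ·` as a functional in the first variable. -/
def form (y : V) : V →ₗ[F] F where
  toFun x := H.h x y
  map_add' a b := H.add_left a b y
  map_smul' c a := H.smul_left c a y

@[simp] theorem form_apply (x y : V) : H.form y x = H.h x y := rfl

theorem exists_h_one {u : V} (hu : u ≠ 0) : ∃ x, H.h x u = 1 := by
  by_contra hcon
  push Not at hcon
  refine hu (H.nondeg u fun y => H.h_comm_zero ?_)
  by_contra h0
  exact hcon ((H.h y u)⁻¹ • y) (by rw [H.smul_left, inv_mul_cancel₀ h0])

theorem exists_h_pair {u w : V} (hw0 : w ≠ 0) (hind : ∀ c : F, c • w ≠ u) (a b : F) :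
    ∃ x, H.h x u = a ∧ H.h x w = b := by
  obtain ⟨y, hy⟩ := H.exists_h_one hw0
  obtain ⟨z, hzw, hzu⟩ : ∃ z, H.h z w = 0 ∧ H.h z u ≠ 0 := by
    by_contra hcon
    push Not at hcon
    refine hind (H.conj (H.h y u)) (eq_of_sub_eq_zero (H.nondeg _ fun x => H.h_comm_zero ?_))
    have h1 := hcon (x - H.h x w • y) (by rw [H.sub_left, H.smul_left, hy, mul_one, sub_self])
    rw [H.sub_left, H.smul_left] at h1
    rw [H.sub_right, H.smul_right, H.conj_conj]
    linear_combination -h1
  refine ⟨b • y + ((a - b * H.h y u) / H.h z u) • z, ?_, ?_⟩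
  · rw [H.add_left, H.smul_left, H.smul_left, div_mul_cancel₀ _ hzu]
    ring
  · rw [H.add_left, H.smul_left, H.smul_left, hy, hzw]
    ring

/-- In a set `K` with a projection onto it, containing a non-zero vector, every fixed value is a norm. -/
theorem exists_value_in (K : Set V) (P : V → V) (hP : ∀ x, P x ∈ K)
    (hPe : ∀ x, ∀ e ∈ K, H.h (P x) e = H.h x e) (hadd : ∀ a ∈ K, ∀ b ∈ K, ∀ c : F, a + c • b ∈ K)
    (hsmul : ∀ a ∈ K, ∀ c : F, c • a ∈ K) {e₀ : V} (he₀ : e₀ ∈ K) (hne : e₀ ≠ 0) {c : F}
    (hc : H.conj c = c) : ∃ e ∈ K, H.h e e = c := by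
  by_cases h0 : H.h e₀ e₀ = 0
  · obtain ⟨x, hx⟩ := H.exists_h_one hne
    have hy : H.h (P x) e₀ = 1 := by rw [hPe x e₀ he₀, hx]
    obtain ⟨t, ht⟩ := H.exists_trace (c := c - H.h (P x) (P x)) (by rw [map_sub, hc, H.conj_diag])
    refine ⟨P x + t • e₀, hadd _ (hP x) _ he₀ t, ?_⟩
    rw [H.add_left, H.add_right, H.add_right, H.smul_left, H.smul_left, H.smul_right, H.smul_right,
      hy, H.h_comm_one hy, h0]
    linear_combination ht
  · obtain ⟨t, ht⟩ := H.norm_surj (c / H.h e₀ e₀) (by rw [map_div₀, hc, H.conj_diag])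
    refine ⟨t • e₀, hsmul _ he₀ t, ?_⟩
    rw [H.smul_left, H.smul_right, ← mul_assoc, ht, div_mul_cancel₀ _ h0]

end HermSpace

open HermSpace

/-- The unitary group of `H`. -/
def Unit' : Subgroup (V ≃ₗ[F] V) where
  carrier := {g | ∀ x y, H.h (g x) (g y) = H.h x y}
  mul_mem' {a b} ha hb x y := by
    show H.h (a (b x)) (a (b y)) = H.h x y
    rw [ha, hb]
  one_mem' _ _ := rfl
  inv_mem' {a} ha x y := by
    show H.h (a.symm x) (a.symm y) = H.h x y
    rw [← ha (a.symm x) (a.symm y), LinearEquiv.apply_symm_apply, LinearEquiv.apply_symm_apply]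

variable {H}

theorem unit_ext {g g' : Unit' H} (w : ∀ x, g.1 x = g'.1 x) : g = g' :=
  Subtype.ext (LinearEquiv.ext w)

@[simp] theorem mul_apply (g g' : Unit' H) (x : V) : (g * g').1 x = g.1 (g'.1 x) := rfl

@[simp] theorem one_apply (x : V) : (1 : Unit' H).1 x = x := rfl

theorem inv_apply_self (g : Unit' H) (x : V) : (g⁻¹).1 (g.1 x) = x := g.1.symm_apply_apply x

theorem self_apply_inv (g : Unit' H) (x : V) : g.1 ((g⁻¹).1 x) = x := g.1.apply_symm_apply x

theorem unit_h (g : Unit' H) (x y : V) : H.h (g.1 x) (g.1 y) = H.h x y := g.2 x y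

theorem unit_ne_zero (g : Unit' H) {x : V} (hx : x ≠ 0) : g.1 x ≠ 0 :=
  (LinearEquiv.map_ne_zero_iff g.1).mpr hx

theorem unit_h_fix (g : Unit' H) {x : V} (hx : g.1 x = x) (y : V) : H.h x (g.1 y - y) = 0 := by
  rw [H.sub_right]
  nth_rewrite 1 [← hx]
  rw [unit_h, sub_self]

/-! ### Shears -/

/-- The condition for `x ↦ x + c h(x,v) v` to be an isometry. -/
def ShearCond (H : HermSpace F V) (v : V) (c : F) : Prop :=
  c + H.conj c + c * H.conj c * H.h v v = 0

theorem ShearCond.eq {v : V} {c : F} (hc : ShearCond H v c) :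
    c + H.conj c + c * H.conj c * H.h v v = 0 := hc

theorem ShearCond.conj {v : V} {c : F} (hc : ShearCond H v c) : ShearCond H v (H.conj c) := by
  unfold ShearCond at hc ⊢
  rw [H.conj_conj]
  linear_combination hc

/-- The shear `x ↦ x + c h(x,v) v`. -/
def shear (H : HermSpace F V) (v : V) (c : F) (hc : ShearCond H v c) : Unit' H :=
  ⟨{ toFun := fun x => x + (c * H.h x v) • v
     invFun := fun x => x + (H.conj c * H.h x v) • v
     map_add' := fun x y => by
       simp only [H.add_left]
       module
     map_smul' := fun a x => by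
       simp only [H.smul_left, RingHom.id_apply]
       module
     left_inv := fun x => by
       simp only [H.add_left, H.smul_left, add_assoc, ← add_smul]
       rw [add_eq_left]
       convert zero_smul F v using 2
       linear_combination H.h x v * hc.eq
     right_inv := fun x => by
       simp only [H.add_left, H.smul_left, add_assoc, ← add_smul]
       rw [add_eq_left]
       convert zero_smul F v using 2
       linear_combination H.h x v * hc.eq },
   fun x y => by
    show H.h (x + (c * H.h x v) • v) (y + (c * H.h y v) • v) = H.h x y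
    rw [H.add_left, H.add_right, H.add_right, H.smul_left, H.smul_left, H.smul_right, H.smul_right,
      map_mul, H.symm']
    linear_combination H.h x v * H.h v y * hc.eq⟩

theorem shear_apply {v : V} {c : F} (hc : ShearCond H v c) (x : V) :
    (shear H v c hc).1 x = x + (c * H.h x v) • v := rfl

theorem shear_conj (g : Unit' H) {v : V} {c : F} (hc : ShearCond H v c) :
    g * shear H v c hc * g⁻¹ = shear H (g.1 v) c (by unfold ShearCond; rw [unit_h]; exact hc) := by
  rw [mul_inv_eq_iff_eq_mul]
  refine unit_ext fun x => ?_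
  simp only [mul_apply, shear_apply, map_add, map_smul, unit_h]

theorem shearCond_smul {v : V} {c : F} (a : F) (hc : ShearCond H (a • v) c) :
    ShearCond H v (c * (a * H.conj a)) := by
  unfold ShearCond at hc ⊢
  rw [H.smul_left, H.smul_right] at hc
  simp only [map_mul, H.conj_conj]
  linear_combination a * H.conj a * hc

theorem shear_smul {v : V} {c : F} (a : F) (hc : ShearCond H (a • v) c) :
    shear H (a • v) c hc = shear H v (c * (a * H.conj a)) (shearCond_smul a hc) := by
  refine unit_ext fun x => ?_
  simp only [shear_apply, H.smul_right, smul_smul]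
  congr 2
  ring

theorem shearCond_move {u w : V} (e : H.h u u = H.h w w) (hne : H.h u (w - u) ≠ 0) :
    ShearCond H (w - u) (H.h u (w - u))⁻¹ := by
  have key : H.h u (w - u) + H.conj (H.h u (w - u)) + H.h (w - u) (w - u) = 0 := by
    rw [H.symm']
    simp only [H.sub_left, H.sub_right]
    linear_combination -e
  unfold ShearCond
  rw [map_inv₀]
  have h2 := H.conj_ne_zero hne
  field_simp
  linear_combination key

theorem shear_move {u w : V} (e : H.h u u = H.h w w) (hne : H.h u (w - u) ≠ 0) :
    (shear H (w - u) (H.h u (w - u))⁻¹ (shearCond_move e hne)).1 u = w := by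
  rw [shear_apply, inv_mul_cancel₀ hne, one_smul]
  abel

/-- The unitary group is transitive on the vectors of norm one. -/
theorem exists_map_norm_one {u w : V} (hu : H.h u u = 1) (hw : H.h w w = 1) :
    ∃ g : Unit' H, g.1 u = w := by
  have key : ∀ a b : V, H.h a a = 1 → H.h b b = 1 → H.h a b ≠ 1 → ∃ g : Unit' H, g.1 a = b :=
    fun a b ha hb hab =>
      ⟨_, shear_move (by rw [ha, hb]) (by rw [H.sub_right, ha]; exact sub_ne_zero.2 hab)⟩
  by_cases h1 : H.h u w = 1
  · obtain ⟨l, hl, hl1⟩ := H.exists_norm_one_ne_one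
    obtain ⟨g, hg⟩ := key u (l • w) hu (by rw [H.smul_left, H.smul_right, hw, mul_one, hl])
      (by rw [H.smul_right, h1, mul_one]
          exact fun h0 => hl1 (by rw [← H.conj_conj l, h0, map_one]))
    obtain ⟨g', hg'⟩ := key (l • w) w (by rw [H.smul_left, H.smul_right, hw, mul_one, hl]) hw
      (by rw [H.smul_left, hw, mul_one]; exact hl1)
    exact ⟨g' * g, by rw [mul_apply, hg, hg']⟩
  · exact key u w hu hw h1

/-- The set of shears. -/
def shearSet (H : HermSpace F V) : Set (Unit' H) :=
  {g | ∃ (v : V) (c : F) (hc : ShearCond H v c), g = shear H v c hc}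

/-- The unitary group is generated by shears. -/
theorem closure_shear [FiniteDimensional F V] : Subgroup.closure (shearSet H) = ⊤ := by
  suffices h : ∀ (n : ℕ) (g : Unit' H),
      finrank F V ≤ finrank F (LinearMap.eqLocus (g.1 : V →ₗ[F] V) LinearMap.id) + n →
        g ∈ Subgroup.closure (shearSet H) by
    rw [eq_top_iff]
    intro g _
    exact h (finrank F V) g (Nat.le_add_left _ _)
  intro n
  induction n with
  | zero =>
    intro g hg
    have htop : LinearMap.eqLocus (g.1 : V →ₗ[F] V) LinearMap.id = ⊤ :=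
      Submodule.eq_top_of_finrank_eq (le_antisymm (Submodule.finrank_le _) (by simpa using hg))
    have : g = 1 := unit_ext fun x => by
      have hx : x ∈ LinearMap.eqLocus (g.1 : V →ₗ[F] V) LinearMap.id := by rw [htop]; trivial
      exact hx
    rw [this]
    exact one_mem _
  | succ n ih =>
    intro g hg
    by_cases h2 : ∃ y, H.h y (g.1 y - y) ≠ 0
    · obtain ⟨y, hy⟩ := h2
      have e : H.h y y = H.h (g.1 y) (g.1 y) := (unit_h g y y).symm
      set t := shear H (g.1 y - y) _ (shearCond_move e hy) with ht
      have hty : t.1 y = g.1 y := shear_move e hy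
      have hfix : ∀ x, g.1 x = x → t.1 x = x := fun x hx => by
        rw [ht, shear_apply, unit_h_fix g hx, mul_zero, zero_smul, add_zero]
      have hy' : (t⁻¹ * g).1 y = y := by rw [mul_apply, ← hty, inv_apply_self]
      have hne : g.1 y ≠ y := fun h0 => hy (by rw [h0, sub_self, H.zero_right])
      have hfix' : ∀ x, g.1 x = x → (t⁻¹ * g).1 x = x := fun x hx => by
        rw [mul_apply, hx]
        nth_rewrite 1 [← hfix x hx]
        rw [inv_apply_self]
      have hlt : LinearMap.eqLocus (g.1 : V →ₗ[F] V) LinearMap.id <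
          LinearMap.eqLocus ((t⁻¹ * g).1 : V →ₗ[F] V) LinearMap.id :=
        lt_of_le_of_ne (fun x hx => hfix' x hx) fun heq =>
          hne (show y ∈ LinearMap.eqLocus (g.1 : V →ₗ[F] V) LinearMap.id by rw [heq]; exact hy')
      have := Submodule.finrank_lt_finrank_of_lt hlt
      have hmem := ih (t⁻¹ * g) (by omega)
      rw [show g = t * (t⁻¹ * g) by group]
      exact mul_mem (Subgroup.subset_closure ⟨_, _, _, ht⟩) hmem
    · push Not at h2
      have hD : ∀ x y, H.h x (g.1 y - y) + H.h y (g.1 x - x) = 0 := by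
        intro x y
        have h3 := h2 (x + y)
        rw [map_add, add_sub_add_comm, H.add_left, H.add_right, H.add_right, h2, h2] at h3
        linear_combination h3
      obtain ⟨a, ha⟩ := H.conj_ne
      have : g = 1 := unit_ext fun y => by
        refine eq_of_sub_eq_zero (H.nondeg _ fun x => H.h_comm_zero ?_)
        have h3 := hD (a • x) y
        rw [map_smul, ← smul_sub, H.smul_left, H.smul_right] at h3
        have h4 : (a - H.conj a) * H.h x (g.1 y - y) = 0 := by
          linear_combination h3 - H.conj a * hD x y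
        exact (mul_eq_zero.1 h4).resolve_left (sub_ne_zero.2 (Ne.symm ha))
      rw [this]
      exact one_mem _

/-! ### Root elements -/

/-- The conditions on the parameters of a root element. -/
def RootCond (H : HermSpace F V) (u w : V) (l : F) : Prop :=
  H.h u u = 0 ∧ H.h w u = 0 ∧ l + H.conj l + H.h w w = 0

theorem RootCond.add {u w w' : V} {l l' : F} (c : RootCond H u w l) (c' : RootCond H u w' l') :
    RootCond H u (w + w') (l + l' - H.h w' w) := by
  refine ⟨c.1, by rw [H.add_left, c.2.1, c'.2.1, add_zero], ?_⟩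
  rw [map_sub, map_add, H.symm', H.add_left, H.add_right, H.add_right]
  linear_combination c.2.2 + c'.2.2

theorem RootCond.neg {u w : V} {l : F} (c : RootCond H u w l) : RootCond H u (-w) (H.conj l) :=
  ⟨c.1, by rw [H.neg_left, c.2.1, neg_zero], by
    rw [H.conj_conj, H.neg_left, H.neg_right, neg_neg]; linear_combination c.2.2⟩

/-- The underlying map of a root element. -/
def rootFun (H : HermSpace F V) (u w : V) (l : F) (x : V) : V :=
  x + H.h x u • w + (-(H.h x w) + l * H.h x u) • u

theorem rootFun_rootFun {u w w' : V} {l l' : F} (c : RootCond H u w l) (c' : RootCond H u w' l')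
    (x : V) :
    rootFun H u w l (rootFun H u w' l' x) = rootFun H u (w + w') (l + l' - H.h w' w) x := by
  simp only [rootFun, H.add_left, H.smul_left, H.add_right, c'.2.1, c.1, H.h_comm_zero c.2.1]
  module

theorem rootFun_zero (u x : V) : rootFun H u 0 0 x = x := by
  simp [rootFun, H.zero_right]

theorem rootFun_inv {u w : V} {l : F} (c : RootCond H u w l) (x : V) :
    rootFun H u w l (rootFun H u (-w) (H.conj l) x) = x := by
  rw [rootFun_rootFun c c.neg, add_neg_cancel, H.neg_left,
    show l + H.conj l - -H.h w w = 0 by linear_combination c.2.2, rootFun_zero]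

/-- A root element as an isometry. -/
def root (H : HermSpace F V) (u w : V) (l : F) (c : RootCond H u w l) : Unit' H :=
  ⟨{ toFun := rootFun H u w l
     invFun := rootFun H u (-w) (H.conj l)
     left_inv := fun x => by
       have h1 := rootFun_inv c.neg x
       rwa [neg_neg, H.conj_conj] at h1
     right_inv := rootFun_inv c
     map_add' := fun x y => by
       simp only [rootFun, H.add_left]
       module
     map_smul' := fun a x => by
       simp only [rootFun, H.smul_left, RingHom.id_apply]
       module },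
   fun x y => by
    show H.h (rootFun H u w l x) (rootFun H u w l y) = H.h x y
    simp only [rootFun, H.add_left, H.add_right, H.smul_left, H.smul_right, map_add, map_neg,
      map_mul, H.symm', c.1, c.2.1, H.h_comm_zero c.2.1]
    linear_combination H.h x u * H.h u y * c.2.2⟩

theorem root_apply {u w : V} {l : F} (c : RootCond H u w l) (x : V) :
    (root H u w l c).1 x = x + H.h x u • w + (-(H.h x w) + l * H.h x u) • u := rfl

theorem root_congr {u u' w w' : V} {l l' : F} (c : RootCond H u w l) (c' : RootCond H u' w' l')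
    (e1 : u = u') (e2 : w = w') (e3 : l = l') : root H u w l c = root H u' w' l' c' := by
  subst e1 e2 e3
  rfl

theorem root_mul {u w w' : V} {l l' : F} (c : RootCond H u w l) (c' : RootCond H u w' l') :
    root H u w l c * root H u w' l' c' = root H u (w + w') (l + l' - H.h w' w) (c.add c') :=
  unit_ext fun x => rootFun_rootFun c c' x

theorem root_inv {u w : V} {l : F} (c : RootCond H u w l) :
    (root H u w l c)⁻¹ = root H u (-w) (H.conj l) c.neg :=
  inv_eq_of_mul_eq_one_right (unit_ext fun x => rootFun_inv c x)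

theorem RootCond.map (g : Unit' H) {u w : V} {l : F} (c : RootCond H u w l) :
    RootCond H (g.1 u) (g.1 w) l := by
  refine ⟨?_, ?_, ?_⟩
  · rw [unit_h, c.1]
  · rw [unit_h, c.2.1]
  · rw [unit_h, c.2.2]

theorem root_conj (g : Unit' H) {u w : V} {l : F} (c : RootCond H u w l) :
    g * root H u w l c * g⁻¹ = root H (g.1 u) (g.1 w) l (c.map g) := by
  rw [mul_inv_eq_iff_eq_mul]
  refine unit_ext fun x => ?_
  simp only [mul_apply, root_apply, map_add, map_smul, unit_h]

theorem RootCond.smul {u w : V} {l : F} (a : F) (c : RootCond H (a • u) w l) (ha : a ≠ 0) :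
    RootCond H u (H.conj a • w) (a * H.conj a * l) := by
  obtain ⟨c1, c2, c3⟩ := c
  rw [H.smul_left, H.smul_right] at c1
  rw [H.smul_right] at c2
  have h2 := H.conj_ne_zero ha
  refine ⟨by simpa [ha, h2] using c1, by rw [H.smul_left]; exact c2, ?_⟩
  rw [H.smul_left, H.smul_right, map_mul, map_mul, H.conj_conj]
  linear_combination a * H.conj a * c3

theorem root_smul {u w : V} {l : F} (a : F) (ha : a ≠ 0) (c : RootCond H (a • u) w l) :
    root H (a • u) w l c = root H u (H.conj a • w) (a * H.conj a * l) (c.smul a ha) := by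
  refine unit_ext fun x => ?_
  simp only [root_apply, H.smul_right, H.conj_conj]
  module

theorem root_add_smul {u w : V} {l : F} (d : F) (c : RootCond H u w l)
    (c' : RootCond H u (w + d • u) (l + (H.conj d - d))) :
    root H u (w + d • u) (l + (H.conj d - d)) c' = root H u w l c := by
  refine unit_ext fun x => ?_
  simp only [root_apply, H.add_right, H.smul_right]
  module

/-- The set of root elements. -/
def rootSet (H : HermSpace F V) : Set (Unit' H) :=
  {g | ∃ (u w : V) (l : F) (c : RootCond H u w l), g = root H u w l c}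

/-- The group generated by the root elements. -/
def rootGen (H : HermSpace F V) : Subgroup (Unit' H) := Subgroup.closure (rootSet H)

theorem root_mem {u w : V} {l : F} (c : RootCond H u w l) : root H u w l c ∈ rootGen H :=
  Subgroup.subset_closure ⟨u, w, l, c, rfl⟩

instance rootGen_normal : (rootGen H).Normal where
  conj_mem n hn g := by
    induction hn using Subgroup.closure_induction with
    | mem x hx =>
      obtain ⟨u, w, l, c, rfl⟩ := hx
      rw [root_conj]
      exact root_mem _
    | one => simp
    | mul x y _ _ hx hy =>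
      have h : g * (x * y) * g⁻¹ = g * x * g⁻¹ * (g * y * g⁻¹) := by group
      rw [h]
      exact mul_mem hx hy
    | inv x _ hx =>
      have h : g * x⁻¹ * g⁻¹ = (g * x * g⁻¹)⁻¹ := by group
      rw [h]
      exact inv_mem hx

theorem shear_isotropic_eq_root {v : V} {c : F} (hc : ShearCond H v c) (hv : H.h v v = 0) :
    shear H v c hc = root H v 0 c ⟨hv, H.zero_left v, by
      rw [H.zero_left]
      linear_combination hc.eq - c * H.conj c * hv⟩ := by
  refine unit_ext fun x => ?_
  show x + (c * H.h x v) • v = x + H.h x v • (0 : V) + (-(H.h x 0) + c * H.h x v) • v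
  rw [H.zero_right]
  module

/-- The determinant on the unitary group. -/
noncomputable def detHom (H : HermSpace F V) : Unit' H →* Fˣ :=
  LinearEquiv.det.comp (Unit' H).subtype

theorem detHom_shear [FiniteDimensional F V] {v : V} {c : F} (hc : ShearCond H v c) :
    (detHom H (shear H v c hc) : F) = 1 + c * H.h v v := by
  show (LinearEquiv.det (shear H v c hc).1 : F) = _
  rw [LinearEquiv.coe_det,
    show ((shear H v c hc).1 : V →ₗ[F] V) = LinearMap.transvection (c • H.form v) v from
      LinearMap.ext fun x => by simp [shear_apply, LinearMap.transvection.apply],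
    LinearMap.transvection.det]
  simp

theorem detHom_root [FiniteDimensional F V] {u w : V} {l : F} (c : RootCond H u w l) :
    detHom H (root H u w l c) = 1 := by
  apply Units.ext
  show (LinearEquiv.det (root H u w l c).1 : F) = _
  rw [LinearEquiv.coe_det,
    show ((root H u w l c).1 : V →ₗ[F] V) = (LinearMap.transvection (-H.form w) u) ∘ₗ
        (LinearMap.transvection (H.form u) (w + (l + H.h w w) • u)) from
      LinearMap.ext fun x => by
        simp [root_apply, LinearMap.transvection.apply, H.add_left, H.smul_left,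
          H.h_comm_zero c.2.1]
        module,
    LinearMap.det_comp, LinearMap.transvection.det, LinearMap.transvection.det]
  simp [H.h_comm_zero c.2.1, H.add_left, H.smul_left, c.1, c.2.1]

theorem rootGen_le_ker_det [FiniteDimensional F V] : rootGen H ≤ (detHom H).ker := by
  rw [rootGen, Subgroup.closure_le]
  rintro _ ⟨u, w, l, c, rfl⟩
  exact detHom_root c

/-! ### Transitivity -/

/-- A hyperbolic pair of isotropic vectors. -/
def IsHPair (H : HermSpace F V) (u z : V) : Prop := H.h u u = 0 ∧ H.h z z = 0 ∧ H.h z u = 1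

theorem IsHPair.left_ne_zero {u z : V} (p : IsHPair H u z) : u ≠ 0 := by
  intro h0
  have h1 := p.2.2
  rw [h0, H.zero_right] at h1
  exact zero_ne_one h1

theorem IsHPair.swap {u z : V} (p : IsHPair H u z) : IsHPair H z u :=
  ⟨p.2.1, p.1, H.h_comm_one p.2.2⟩

theorem IsHPair.map {u z : V} (p : IsHPair H u z) (g : Unit' H) : IsHPair H (g.1 u) (g.1 z) :=
  ⟨by rw [unit_h, p.1], by rw [unit_h, p.2.1], by rw [unit_h, p.2.2]⟩

/-- The root elements at `u` are transitive on the partners of `u`. -/
theorem exists_root_partner {u z z' : V} (p : IsHPair H u z) (p' : IsHPair H u z') :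
    ∃ (w : V) (l : F) (c : RootCond H u w l), (root H u w l c).1 z = z' ∧ (root H u w l c).1 u = u := by
  have c : RootCond H u (z' - z) (H.h z z') := by
    refine ⟨p.1, by rw [H.sub_left, p.2.2, p'.2.2, sub_self], ?_⟩
    rw [H.symm', H.sub_left, H.sub_right, H.sub_right, p.2.1, p'.2.1]
    ring
  refine ⟨_, _, c, ?_, ?_⟩
  · rw [root_apply, p.2.2, H.sub_right, p.2.1]
    module
  · simp [root_apply, p.1, H.h_comm_zero c.2.1]

variable (H) in
/-- Any two vectors have a non-zero common orthogonal vector. -/
def Big : Prop := ∀ u w : V, ∃ e, e ≠ 0 ∧ H.h e u = 0 ∧ H.h e w = 0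

theorem big_of_finrank [FiniteDimensional F V] (hd : 3 ≤ finrank F V) : Big H := by
  intro u w
  have h1 := LinearMap.finrank_range_add_finrank_ker ((H.form u).prod (H.form w))
  have h2 := Submodule.finrank_le (LinearMap.range ((H.form u).prod (H.form w)))
  rw [Module.finrank_prod, finrank_self] at h2
  obtain ⟨e, he, hne⟩ := Submodule.exists_mem_ne_zero_of_ne_bot
    (p := LinearMap.ker ((H.form u).prod (H.form w))) (by
      intro h0
      rw [h0, finrank_bot] at h1
      omega)
  simp at he
  exact ⟨e, hne, he.1, he.2⟩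

/-- An isotropic vector with both products equal to one. -/
theorem exists_isotropic_both (hB : Big H) {u w : V} (hu : H.h u u = 0) (hw : H.h w w = 0)
    (hw0 : w ≠ 0) (hind : ∀ c : F, c • w ≠ u) :
    ∃ z, H.h z z = 0 ∧ H.h z u = 1 ∧ H.h z w = 1 := by
  obtain ⟨x, hx1, hx2⟩ := H.exists_h_pair hw0 hind 1 1
  by_cases ha : H.h u w = 0
  · obtain ⟨t, ht⟩ := H.exists_trace (c := -H.h x x) (by rw [map_neg, H.conj_diag])
    refine ⟨x + t • u, ?_, ?_, ?_⟩
    · rw [H.add_left, H.add_right, H.add_right, H.smul_left, H.smul_left, H.smul_right,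
        H.smul_right, hu, hx1, H.h_comm_one hx1]
      linear_combination ht
    · rw [H.add_left, H.smul_left, hu, hx1]
      ring
    · rw [H.add_left, H.smul_left, ha, hx2]
      ring
  · have hb : H.h w u ≠ 0 := fun h0 => ha (H.h_comm_zero h0)
    set x' := (H.h u w)⁻¹ • u + (H.h w u)⁻¹ • w with hx'
    have h1 : H.h x' u = 1 := by rw [hx', H.add_left, H.smul_left, H.smul_left, hu]; simp [hb]
    have h2 : H.h x' w = 1 := by rw [hx', H.add_left, H.smul_left, H.smul_left, hw]; simp [ha]
    obtain ⟨e₀, he₀, heu, hew⟩ := hB u w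
    set P : V → V := fun y => y + (-(H.h y w * (H.h u w)⁻¹)) • u + (-(H.h y u * (H.h w u)⁻¹)) • w
      with hP
    obtain ⟨e, ⟨he1, he2⟩, hee⟩ := H.exists_value_in {y | H.h y u = 0 ∧ H.h y w = 0} P
      (fun y => by
        constructor
        · simp only [hP, H.add_left, H.smul_left, hu]
          field_simp
          ring
        · simp only [hP, H.add_left, H.smul_left, hw]
          field_simp
          ring)
      (fun y e he => by
        simp only [hP, H.add_left, H.smul_left, H.h_comm_zero he.1, H.h_comm_zero he.2]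
        ring)
      (fun a pa b pb c => ⟨by rw [H.add_left, H.smul_left, pa.1, pb.1]; ring,
        by rw [H.add_left, H.smul_left, pa.2, pb.2]; ring⟩)
      (fun a pa c => ⟨by rw [H.smul_left, pa.1]; ring, by rw [H.smul_left, pa.2]; ring⟩)
      ⟨heu, hew⟩ he₀ (c := -H.h x' x') (by rw [map_neg, H.conj_diag])
    refine ⟨x' + e, ?_, by rw [H.add_left, h1, he1, add_zero], by rw [H.add_left, h2, he2, add_zero]⟩
    have h3 : H.h e x' = 0 := by
      rw [hx', H.add_right, H.smul_right, H.smul_right, he1, he2]
      ring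
    rw [H.add_left, H.add_right x' x' e, H.add_right e x' e, h3, H.h_comm_zero h3, hee]
    ring

theorem exists_isotropic_partner {u : V} (hu : H.h u u = 0) (hu0 : u ≠ 0) :
    ∃ z, IsHPair H u z := by
  obtain ⟨x, hx⟩ := H.exists_h_one hu0
  obtain ⟨t, ht⟩ := H.exists_trace (c := -H.h x x) (by rw [map_neg, H.conj_diag])
  refine ⟨x + t • u, hu, ?_, ?_⟩
  · rw [H.add_left, H.add_right, H.add_right, H.smul_left, H.smul_left, H.smul_right, H.smul_right,
      hu, hx, H.h_comm_one hx]
    linear_combination ht
  · rw [H.add_left, H.smul_left, hu, hx]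
    ring

/-- An isotropic vector not orthogonal to two given ones. -/
theorem exists_isotropic_nonorth (hB : Big H) {u w : V} (hu : H.h u u = 0) (hu0 : u ≠ 0)
    (hw : H.h w w = 0) (hw0 : w ≠ 0) :
    ∃ z, H.h z z = 0 ∧ H.h z u ≠ 0 ∧ H.h z w ≠ 0 := by
  by_cases hind : ∃ c : F, c • w = u
  · obtain ⟨c, hc⟩ := hind
    obtain ⟨z, p⟩ := exists_isotropic_partner hu hu0
    refine ⟨z, p.2.1, by rw [p.2.2]; exact one_ne_zero, fun h0 => one_ne_zero (α := F) ?_⟩
    rw [← p.2.2, ← hc, H.smul_right, h0, mul_zero]
  · push Not at hind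
    obtain ⟨z, h1, h2, h3⟩ := exists_isotropic_both hB hu hw hw0 hind
    exact ⟨z, h1, by rw [h2]; exact one_ne_zero, by rw [h3]; exact one_ne_zero⟩

/-- The root elements are transitive on non-zero isotropic vectors. -/
theorem rootGen_transitive (hB : Big H) {u w : V} (hu : H.h u u = 0) (hu0 : u ≠ 0)
    (hw : H.h w w = 0) (hw0 : w ≠ 0) : ∃ g ∈ rootGen H, g.1 u = w := by
  have key : ∀ a b : V, H.h a a = 0 → H.h b b = 0 → b ≠ 0 → (∀ c : F, c • b ≠ a) →
      ∃ g ∈ rootGen H, g.1 a = b := by
    intro a b ha hb hb0 hind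
    obtain ⟨z, hz, hza, hzb⟩ := exists_isotropic_both hB ha hb hb0 hind
    obtain ⟨y, l, c, hy, -⟩ := exists_root_partner (z := a) (z' := b) ⟨hz, ha, H.h_comm_one hza⟩
      ⟨hz, hb, H.h_comm_one hzb⟩
    exact ⟨_, root_mem c, hy⟩
  by_cases hind : ∃ c : F, c • w = u
  · obtain ⟨c, hc⟩ := hind
    obtain ⟨z, p⟩ := exists_isotropic_partner hu hu0
    obtain ⟨g, hg, hgu⟩ := key u z hu p.2.1 p.swap.left_ne_zero fun d hd => one_ne_zero (α := F) <| by
      rw [← p.2.2, ← hd, H.smul_right, p.2.1, mul_zero]
    obtain ⟨g', hg', hgz⟩ := key z w p.2.1 hw hw0 fun d hd => one_ne_zero (α := F) <| by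
      rw [← p.2.2, ← hd, H.smul_left, ← hc, H.smul_right, hw, mul_zero, mul_zero]
    exact ⟨g' * g, mul_mem hg' hg, by rw [mul_apply, hgu, hgz]⟩
  · push Not at hind
    exact key u w hu hw hw0 hind

/-- The root elements are transitive on hyperbolic pairs. -/
theorem rootGen_map_hpair (hB : Big H) {u z u' z' : V} (p : IsHPair H u z) (p' : IsHPair H u' z') :
    ∃ g ∈ rootGen H, g.1 u = u' ∧ g.1 z = z' := by
  obtain ⟨g, hg, hgu⟩ := rootGen_transitive hB p.1 p.left_ne_zero p'.1 p'.left_ne_zero
  obtain ⟨w, l, c, hz, hu'⟩ := exists_root_partner (p.map g) (z' := z') (hgu.symm ▸ p')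
  exact ⟨_ * g, mul_mem (root_mem c) hg, by rw [mul_apply, hu', hgu], by rw [mul_apply, hz]⟩

theorem exists_pair_of_nonisotropic (hB : Big H) {v : V} (hv : H.h v v ≠ 0) {s : F}
    (hs : s + H.conj s = H.h v v) : ∃ u z, IsHPair H u z ∧ v = z + s • u := by
  have hvv := H.conj_diag v
  obtain ⟨e₀, he₀, hev, -⟩ := hB v v
  obtain ⟨e, he1, hee⟩ := H.exists_value_in {y | H.h y v = 0}
    (fun y => y + (-(H.h y v / H.h v v)) • v)
    (fun y => by
      show H.h (y + (-(H.h y v / H.h v v)) • v) v = 0
      rw [H.add_left, H.smul_left]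
      field_simp
      ring)
    (fun y e he => by
      simp only [H.add_left, H.smul_left, H.h_comm_zero he]
      ring)
    (fun a pa b pb c => by
      show H.h (a + c • b) v = 0
      rw [H.add_left, H.smul_left, pa, pb]; ring)
    (fun a pa c => by
      show H.h (c • a) v = 0
      rw [H.smul_left, pa]; ring)
    (e₀ := e₀) hev he₀ (c := -(H.h v v)⁻¹) (by rw [map_neg, map_inv₀, hvv])
  change H.h e v = 0 at he1
  set u := (H.h v v)⁻¹ • v + e with hu
  have huv : H.h u v = 1 := by
    rw [hu, H.add_left, H.smul_left, he1, inv_mul_cancel₀ hv, add_zero]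
  have huu : H.h u u = 0 := by
    rw [hu, H.add_left, H.add_right, H.add_right, H.smul_left, H.smul_left, H.smul_right,
      H.smul_right, he1, H.h_comm_zero he1, hee, map_inv₀, hvv]
    field_simp
    ring
  refine ⟨u, v + (-s) • u, ⟨huu, ?_, ?_⟩, by module⟩
  · rw [H.add_left, H.add_right, H.add_right, H.smul_left, H.smul_left, H.smul_right, H.smul_right,
      huu, huv, H.h_comm_one huv, map_neg]
    linear_combination -hs
  · rw [H.add_left, H.smul_left, huu, H.h_comm_one huv]
    ring

section Decompose

variable [FiniteDimensional F V] (hB : Big H)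

include hB

/-- Modulo the root group every element is a shear at a fixed vector of norm one. -/
theorem exists_mul_shear {e f : V} (p : IsHPair H e f) {t : F} (ht : t + H.conj t = 1)
    (g : Unit' H) : ∃ s ∈ rootGen H, ∃ (c : F) (hc : ShearCond H (f + t • e) c),
      g = s * shear H (f + t • e) c hc := by
  set v₁ := f + t • e with hv₁
  have hv11 : H.h v₁ v₁ = 1 := by
    rw [hv₁, H.add_left, H.add_right, H.add_right, H.smul_left, H.smul_left, H.smul_right,
      H.smul_right, p.1, p.2.1, p.2.2, H.h_comm_one p.2.2]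
    linear_combination ht
  let K : Subgroup (Unit' H) :=
    { carrier := {k | ∃ (c : F) (hc : ShearCond H v₁ c), k = shear H v₁ c hc}
      mul_mem' := by
        rintro a b ⟨c, hc, rfl⟩ ⟨d, hd, rfl⟩
        refine ⟨c + d + c * d, ?_, unit_ext fun x => ?_⟩
        · unfold ShearCond at hc hd ⊢
          rw [hv11] at hc hd ⊢
          rw [map_add, map_add, map_mul]
          linear_combination (1 + d) * (1 + H.conj d) * hc + hd
        · simp only [mul_apply, shear_apply, H.add_left, H.smul_left, hv11]
          module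
      one_mem' := ⟨0, by unfold ShearCond; simp, unit_ext fun x => by simp [shear_apply]⟩
      inv_mem' := by
        rintro a ⟨c, hc, rfl⟩
        exact ⟨H.conj c, hc.conj, unit_ext fun x => rfl⟩ }
  suffices htop : ∀ x : Unit' H, x ∈ rootGen H ⊔ K by
    obtain ⟨s, hs, k, ⟨c, hc, rfl⟩, rfl⟩ := Subgroup.mem_sup_of_normal_left.1 (htop g)
    exact ⟨s, hs, c, hc, rfl⟩
  intro x
  have hx : x ∈ Subgroup.closure (shearSet H) := by rw [closure_shear]; trivial
  refine (Subgroup.closure_le _).2 ?_ hx
  rintro _ ⟨v, c, hc, rfl⟩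
  by_cases hv : H.h v v = 0
  · exact Subgroup.mem_sup_left (by rw [shear_isotropic_eq_root hc hv]; exact root_mem _)
  · obtain ⟨a, ha⟩ := H.norm_surj _ (H.conj_diag v)
    have ha0 : a ≠ 0 := by
      intro h0
      rw [h0, zero_mul] at ha
      exact hv ha.symm
    have ha1 := H.conj_ne_zero ha0
    set v' := a⁻¹ • v with hv'
    have hv'1 : H.h v' v' = 1 := by
      rw [hv', H.smul_left, H.smul_right, ← ha, map_inv₀]
      field_simp
    have hs' : t + H.conj t = H.h v' v' := by rw [hv'1, ht]
    obtain ⟨u, z, p', hvz⟩ := exists_pair_of_nonisotropic hB (by rw [hv'1]; exact one_ne_zero) hs'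
    obtain ⟨k, hk, hku, hkz⟩ := rootGen_map_hpair hB p' p
    have hkv : k.1 v = a • v₁ := by
      have : v = a • v' := by rw [hv', smul_smul, mul_inv_cancel₀ ha0, one_smul]
      rw [this, map_smul, hvz, map_add, map_smul, hku, hkz]
    have hc1 : ShearCond H (a • v₁) c := by
      rw [← hkv]
      unfold ShearCond
      rw [unit_h]
      exact hc
    have h1 : k * shear H v c hc * k⁻¹ ∈ K := by
      refine ⟨_, shearCond_smul a hc1, ?_⟩
      rw [shear_conj, ← shear_smul a hc1]
      exact unit_ext fun y => by simp only [shear_apply, hkv]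
    have h2 : shear H v c hc = k⁻¹ * (k * shear H v c hc * k⁻¹) * k := by group
    rw [SetLike.mem_coe, h2]
    exact (rootGen H ⊔ K).mul_mem ((rootGen H ⊔ K).mul_mem
      (Subgroup.mem_sup_left (inv_mem hk)) (Subgroup.mem_sup_right h1)) (Subgroup.mem_sup_left hk)

/-- The root group is the group of isometries of determinant one. -/
theorem rootGen_eq_ker_det {e f : V} (p : IsHPair H e f) : rootGen H = (detHom H).ker := by
  refine le_antisymm rootGen_le_ker_det fun g hg => ?_
  obtain ⟨t, ht⟩ := H.exists_trace_one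
  obtain ⟨s, hs, c, hc, rfl⟩ := exists_mul_shear hB p ht g
  have hd : detHom H (shear H _ c hc) = 1 := by
    rw [MonoidHom.mem_ker, map_mul, MonoidHom.mem_ker.1 (rootGen_le_ker_det hs), one_mul] at hg
    exact hg
  have h1 := congrArg Units.val hd
  rw [detHom_shear, Units.val_one, H.add_left, H.add_right, H.add_right, H.smul_left, H.smul_left,
    H.smul_right, H.smul_right, p.1, p.2.1, p.2.2, H.h_comm_one p.2.2] at h1
  have hc0 : c = 0 := by linear_combination h1 - c * ht
  subst hc0
  have : shear H _ 0 hc = 1 := unit_ext fun x => by simp [shear_apply]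
  rw [this, mul_one]
  exact hs

end Decompose

end CfsgLib.Classical.Herm
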