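import Cfsg.Agent.Lib.Classical.Herm.Std
import Cfsg.Agent.Lib.Forms.Witt
import Mathlib.Algebra.Module.Submodule.Invariant
import Mathlib.LinearAlgebra.FreeModule.Finite.CardQuotient
import Mathlib.LinearAlgebra.Matrix.GeneralLinearGroup.Card

/-!
Witt's theorem for the unitary group, fixers of isotropic tuples and the order of the stabiliser
of a totally isotropic subspace.
-/

set_option autoImplicit false

namespace CfsgLib.Classical.Herm

open Module HermSpace

section General

variable {F V : Type*} [Field F] [AddCommGroup V] [Module F V] [FiniteDimensional F V]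
  {H : HermSpace F V}

/-- Witt's theorem for a Hermitian space. -/
theorem exists_extend_isometry (X : Submodule F V) (f : V →ₗ[F] V)
    (hf : ∀ x ∈ X, ∀ y ∈ X, H.h (f x) (f y) = H.h x y) (hinj : ∀ x ∈ X, f x = 0 → x = 0) :
    ∃ g : Unit' H, ∀ x ∈ X, g.1 x = f x := by
  let B : V →ₛₗ[H.conj] V →ₗ[F] F :=
    LinearMap.mk₂'ₛₗ H.conj (RingHom.id F) (fun x y => H.h y x)
      (fun x x' y => H.add_right y x x') (fun c x y => H.smul_right c y x)
      (fun x y y' => H.add_left y y' x) (fun c x y => H.smul_left c y x)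
  have hB : ∀ x y, B x y = H.h y x := fun _ _ => rfl
  obtain ⟨g, hg, hgX⟩ := CfsgLib.Forms.witt_hermitian B
    (fun h => by obtain ⟨a, ha⟩ := H.conj_ne; exact ha (by rw [h]; rfl))
    H.conj_conj ⟨fun x y => by rw [hB, hB]; exact H.symm' y x⟩
    ⟨fun x hx => H.nondeg x fun y => H.h_comm_zero (hx y), fun y hy => H.nondeg y hy⟩ X f
    (fun x hx y hy => hf y hy x hx) hinj
  exact ⟨⟨g, fun x y => hg y x⟩, hgX⟩

variable (H)

/-- Linearly independent, pairwise orthogonal isotropic tuples. -/
def IsIsoTuple {k : ℕ} (t : Fin k → V) : Prop :=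
  LinearIndependent F t ∧ ∀ i j, H.h (t i) (t j) = 0

/-- The fixer of a tuple. -/
def tupFix {k : ℕ} (t : Fin k → V) : Subgroup (Unit' H) where
  carrier := {g | ∀ i, g.1 (t i) = t i}
  mul_mem' {a b} ha hb i := by rw [mul_apply, hb i, ha i]
  one_mem' _ := rfl
  inv_mem' {a} ha i := by
    have := inv_apply_self a (t i)
    rwa [ha i] at this

omit [FiniteDimensional F V] in
theorem mem_tupFix {k : ℕ} {t : Fin k → V} {g : Unit' H} :
    g ∈ tupFix H t ↔ ∀ i, g.1 (t i) = t i := Iff.rfl

variable {H}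

/-- The unitary group is transitive on isotropic tuples of a given length. -/
theorem exists_map_tuple {k : ℕ} {t u : Fin k → V} (ht : IsIsoTuple H t) (hu : IsIsoTuple H u) :
    ∃ g : Unit' H, ∀ i, g.1 (t i) = u i := by
  let b := Basis.span ht.1
  let f₀ := b.constr F u
  obtain ⟨f, hf⟩ := LinearMap.exists_extend f₀
  have hft : ∀ i, f (t i) = u i := fun i => by
    have h1 := LinearMap.congr_fun hf (b i)
    rw [LinearMap.comp_apply, Submodule.subtype_apply, show f₀ (b i) = u i from
      b.constr_basis F u i] at h1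
    rwa [show ((b i : Submodule.span F (Set.range t)) : V) = t i by
      simp [b, Basis.span_apply]] at h1
  obtain ⟨g, hg⟩ := exists_extend_isometry (H := H) (Submodule.span F (Set.range t)) f
    (fun x hx y hy => by
      have key : ∀ a ∈ Submodule.span F (Set.range t), ∀ j,
          H.h (f a) (u j) = 0 ∧ H.h a (t j) = 0 := by
        intro a ha j
        induction ha using Submodule.span_induction with
        | mem a ha => obtain ⟨i, rfl⟩ := ha; exact ⟨by rw [hft]; exact hu.2 i j, ht.2 i j⟩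
        | zero => simp [H.zero_left]
        | add a b _ _ pa pb => simp [H.add_left, pa.1, pa.2, pb.1, pb.2]
        | smul c a _ pa => simp [H.smul_left, pa.1, pa.2]
      induction hy using Submodule.span_induction with
      | mem a ha =>
        obtain ⟨j, rfl⟩ := ha
        rw [hft, (key x hx j).1, (key x hx j).2]
      | zero => simp [H.zero_right]
      | add a b _ _ pa pb => simp [H.add_right, pa, pb]
      | smul c a _ pa => simp [H.smul_right, pa])
    (fun x hx hx0 => by
      obtain ⟨c, rfl⟩ := (Submodule.mem_span_range_iff_exists_fun F).1 hx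
      simp only [map_sum, map_smul, hft] at hx0
      simp [Fintype.linearIndependent_iff.1 hu.1 c hx0])
  exact ⟨g, fun i => by rw [hg _ (Submodule.subset_span ⟨i, rfl⟩), hft]⟩

/-- The possible extensions of a tuple. -/
abbrev ExtVec (H : HermSpace F V) {k : ℕ} (t : Fin k → V) : Type _ :=
  {v : V // (H.h v v = 0 ∧ ∀ i, H.h v (t i) = 0) ∧ v ∉ Submodule.span F (Set.range t)}

omit [FiniteDimensional F V] in
theorem isIsoTuple_snoc {k : ℕ} {t : Fin k → V} (ht : IsIsoTuple H t) (v : ExtVec H t) :
    IsIsoTuple H (Fin.snoc t v.1) := by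
  refine ⟨(linearIndependent_finSnoc).2 ⟨ht.1, v.2.2⟩, fun i j => ?_⟩
  refine Fin.lastCases ?_ (fun i => ?_) i <;> refine Fin.lastCases ?_ (fun j => ?_) j <;>
    simp only [Fin.snoc_last, Fin.snoc_castSucc]
  · exact v.2.1.1
  · exact v.2.1.2 j
  · exact H.h_comm_zero (v.2.1.2 i)
  · exact ht.2 i j

/-- One step of the orbit–stabiliser count. -/
theorem card_tupFix_succ {k : ℕ} {t : Fin k → V} (ht : IsIsoTuple H t) (v₀ : ExtVec H t) :
    Nat.card (tupFix H t) =
      Nat.card (ExtVec H t) * Nat.card (tupFix H (Fin.snoc t v₀.1)) := by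
  classical
  have himg : ∀ g : tupFix H t,
      (H.h (g.1.1 v₀.1) (g.1.1 v₀.1) = 0 ∧ ∀ i, H.h (g.1.1 v₀.1) (t i) = 0) ∧
        g.1.1 v₀.1 ∉ Submodule.span F (Set.range t) := fun g => by
    refine ⟨⟨by rw [unit_h, v₀.2.1.1], fun i => ?_⟩, fun hm => v₀.2.2 ?_⟩
    · rw [← g.2 i, unit_h, v₀.2.1.2]
    · obtain ⟨c, hc⟩ := (Submodule.mem_span_range_iff_exists_fun F).1 hm
      refine (Submodule.mem_span_range_iff_exists_fun F).2 ⟨c, g.1.1.injective ?_⟩
      rw [map_sum, ← hc]
      exact Finset.sum_congr rfl fun i _ => by rw [map_smul, g.2 i]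
  choose mv hmv using fun v : ExtVec H t =>
    exists_map_tuple (isIsoTuple_snoc ht v₀) (isIsoTuple_snoc ht v)
  have hmt : ∀ v, mv v ∈ tupFix H t := fun v i => by simpa using hmv v i.castSucc
  have hm0 : ∀ v : ExtVec H t, (mv v).1 v₀.1 = v.1 := fun v => by
    simpa using hmv v (Fin.last k)
  let img : tupFix H t → ExtVec H t := fun g => ⟨g.1.1 v₀.1, himg g⟩
  have hsub : ∀ x : tupFix H (Fin.snoc t v₀.1), x.1 ∈ tupFix H t ∧ x.1.1 v₀.1 = v₀.1 :=
    fun x => ⟨fun i => by simpa using x.2 i.castSucc, by simpa using x.2 (Fin.last k)⟩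
  rw [← Nat.card_prod]
  refine Nat.card_congr
    { toFun := fun g => (img g, ⟨(mv (img g))⁻¹ * g.1, fun i => ?_⟩)
      invFun := fun p => ⟨mv p.1 * p.2.1, mul_mem (hmt _) (hsub p.2).1⟩
      left_inv := fun g => Subtype.ext (mul_inv_cancel_left _ _)
      right_inv := fun p => ?_ }
  · rw [mul_apply]
    refine (mv (img g)).1.injective ?_
    rw [self_apply_inv, hmv]
    refine Fin.lastCases ?_ (fun i => ?_) i <;> simp only [Fin.snoc_last, Fin.snoc_castSucc]
    · rfl
    · exact g.2 i
  · have e : img ⟨mv p.1 * p.2.1, mul_mem (hmt _) (hsub p.2).1⟩ = p.1 :=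
      Subtype.ext (by
        show (mv p.1 * p.2.1).1 v₀.1 = p.1.1
        rw [mul_apply, (hsub p.2).2, hm0])
    refine Prod.ext e (Subtype.ext ?_)
    show (mv (img ⟨mv p.1 * p.2.1, _⟩))⁻¹ * (mv p.1 * p.2.1) = p.2.1
    rw [e, inv_mul_cancel_left]

/-- Fixers of isotropic tuples of one length have the same order. -/
theorem card_tupFix_eq {k : ℕ} {t u : Fin k → V} (ht : IsIsoTuple H t) (hu : IsIsoTuple H u) :
    Nat.card (tupFix H t) = Nat.card (tupFix H u) := by
  obtain ⟨g, hg⟩ := exists_map_tuple ht hu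
  refine Nat.card_congr ((MulAut.conj g).toEquiv.subtypeEquiv fun x => ?_)
  simp only [mem_tupFix, MulEquiv.toEquiv_eq_coe, EquivLike.coe_coe, MulAut.conj_apply,
    mul_apply, ← hg, inv_apply_self]
  exact forall_congr' fun i => g.1.injective.eq_iff.symm

variable (H) in
/-- The stabiliser of a subspace. -/
def subStab (W : Submodule F V) : Subgroup (Unit' H) where
  carrier := {g | ∀ x, x ∈ W ↔ g.1 x ∈ W}
  mul_mem' {a b} ha hb x := by rw [mul_apply, hb x, ha]
  one_mem' _ := Iff.rfl
  inv_mem' {a} ha x := by rw [ha ((a⁻¹).1 x), self_apply_inv]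

theorem card_subStab [Finite F] {k : ℕ} (W : Submodule F V) (hWk : finrank F W = k)
    (hW : ∀ u ∈ W, ∀ v ∈ W, H.h u v = 0) (t : Fin k → V) (ht : IsIsoTuple H t) :
    Nat.card (subStab H W) =
      (∏ i : Fin k, (Nat.card F ^ k - Nat.card F ^ (i : ℕ))) * Nat.card (tupFix H t) := by
  classical
  haveI := Fintype.ofFinite F
  haveI : Finite V := Module.finite_of_finite F
  let b := Module.finBasisOfFinrankEq F W hWk
  let B := fun i => (b i : V)
  have hB : IsIsoTuple H B :=
    ⟨b.linearIndependent.map' W.subtype (Submodule.ker_subtype W), fun i j => hW _ (b i).2 _ (b j).2⟩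
  rw [card_tupFix_eq ht hB]
  let L := {s : Fin k → W // LinearIndependent F s}
  have hL : Nat.card L = ∏ i : Fin k, (Nat.card F ^ k - Nat.card F ^ (i : ℕ)) := by
    rw [show Nat.card L = Nat.card {s : Fin k → W // LinearIndependent F s} from rfl,
      card_linearIndependent (K := F) (V := W) (k := k) (by rw [hWk]), hWk, Nat.card_eq_fintype_card]
  rw [← hL]
  have hspan : Submodule.span F (Set.range B) = W := by
    have := congrArg (Submodule.map W.subtype) b.span_eq
    rwa [Submodule.map_span, ← Set.range_comp, Submodule.map_subtype_top] at this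
  have hmem : ∀ g : Unit' H, (∀ i, g.1 (B i) ∈ W) → g ∈ subStab H W := by
    intro g hg
    have hle : Submodule.map (g.1 : V →ₗ[F] V) W ≤ W := by
      conv_lhs => rw [← hspan, Submodule.map_span]
      refine Submodule.span_le.2 ?_
      rintro _ ⟨_, ⟨i, rfl⟩, rfl⟩
      exact hg i
    have heq : Submodule.map (g.1 : V →ₗ[F] V) W = W :=
      Submodule.eq_of_le_of_finrank_le hle (le_of_eq (LinearEquiv.finrank_map_eq g.1 W).symm)
    intro x
    conv_rhs => rw [← heq]
    simp
  choose mv hmv using fun s : L => exists_map_tuple hB (u := fun i => (s.1 i : V))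
    ⟨s.2.map' W.subtype (Submodule.ker_subtype W), fun i j => hW _ (s.1 i).2 _ (s.1 j).2⟩
  have hmS : ∀ s, mv s ∈ subStab H W := fun s => hmem _ fun i => by rw [hmv]; exact (s.1 i).2
  let img : subStab H W → L := fun g => ⟨fun i => ⟨g.1.1 (B i), (g.2 (B i)).1 (b i).2⟩, by
    refine LinearIndependent.of_comp W.subtype ?_
    exact hB.1.map' (g.1.1 : V →ₗ[F] V) (LinearEquiv.ker g.1.1)⟩
  rw [← Nat.card_prod]
  refine Nat.card_congr
    { toFun := fun g => (img g, ⟨(mv (img g))⁻¹ * g.1, fun i => ?_⟩)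
      invFun := fun p => ⟨mv p.1 * p.2.1, mul_mem (hmS _) (hmem _ fun i => by
        rw [p.2.2 i]; exact (b i).2)⟩
      left_inv := fun g => Subtype.ext (mul_inv_cancel_left _ _)
      right_inv := fun p => ?_ }
  · rw [mul_apply]
    refine (mv (img g)).1.injective ?_
    rw [self_apply_inv, hmv]
  · have e : ∀ pf, img ⟨mv p.1 * p.2.1, pf⟩ = p.1 := fun pf =>
      Subtype.ext (funext fun i => Subtype.ext (by
        show (mv p.1 * p.2.1).1 (B i) = (p.1.1 i : V)
        rw [mul_apply, p.2.2 i, hmv]))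
    refine Prod.ext (e _) (Subtype.ext ?_)
    show (mv (img ⟨mv p.1 * p.2.1, _⟩))⁻¹ * (mv p.1 * p.2.1) = p.2.1
    rw [e, inv_mul_cancel_left]

/-- In a stabiliser of an isotropic point every value `a / conj a` is a determinant. -/
theorem exists_subStab_det (W : Submodule F V) (hW : ∀ u ∈ W, ∀ v ∈ W, H.h u v = 0)
    {u : V} (hu : u ∈ W) (hu0 : u ≠ 0) {a : F} (ha : a ≠ 0) :
    ∃ g ∈ subStab H W, (detHom H g : F) = a * (H.conj a)⁻¹ := by
  obtain ⟨z, p⟩ := exists_isotropic_partner (H := H) (hW u hu u hu) hu0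
  have huz : H.h u z = 1 := H.h_comm_one p.2.2
  obtain ⟨d, hdet, hdu, hfix⟩ := exists_dilation p ha
  refine ⟨d, ?_, hdet⟩
  have hle : Submodule.map (d.1 : V →ₗ[F] V) W ≤ W := by
    rintro _ ⟨x, hx, rfl⟩
    show d.1 x ∈ W
    have h1 : d.1 (x - H.h x z • u) = x - H.h x z • u := by
      refine hfix _ ?_ ?_
      · rw [H.sub_left, H.smul_left, hW x hx u hu, hW u hu u hu, mul_zero, sub_zero]
      · rw [H.sub_left, H.smul_left, huz, mul_one, sub_self]
    rw [map_sub, map_smul, hdu, sub_eq_iff_eq_add] at h1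
    rw [h1]
    exact add_mem (sub_mem hx (W.smul_mem _ hu)) (W.smul_mem _ (W.smul_mem _ hu))
  have heq : Submodule.map (d.1 : V →ₗ[F] V) W = W :=
    Submodule.eq_of_le_of_finrank_le hle (le_of_eq (LinearEquiv.finrank_map_eq d.1 W).symm)
  intro x
  conv_rhs => rw [← heq]
  simp

end General

section Standard

variable {F : Type*} [Field F] [Fintype F] {q : ℕ}

/-- The coordinate isotropic vectors. -/
def sv (n : ℕ) (l : F) (i : ℕ) : Fin n → F :=
  fun x => if x.val = 2 * i then 1 else if x.val = 2 * i + 1 then l else 0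

theorem h_sv (hF : Fintype.card F = q ^ 2) (n : ℕ) (l : F) {i : ℕ} (hi : 2 * i + 1 < n)
    (v : Fin n → F) :
    Cfsg.hermForm n F q v (sv n l i) = v ⟨2 * i, by omega⟩ + v ⟨2 * i + 1, hi⟩ * l ^ q := by
  have hq : q ≠ 0 := by have := two_le_of_card hF; omega
  rw [Cfsg.hermForm, Fintype.sum_eq_add (⟨2 * i, by omega⟩ : Fin n) ⟨2 * i + 1, hi⟩
    (fun h => by simp [Fin.ext_iff] at h) fun x hx => ?_]
  · simp [sv]
  · simp [Fin.ext_iff] at hx
    simp [sv, hx.1, hx.2, zero_pow hq]

/-- The number of isotropic vectors orthogonal to the first `j` coordinate isotropic vectors. -/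
theorem card_perp_sv (hF : Fintype.card F = q ^ 2) {l : F} (hl : 1 + l * l ^ q = 0) (j : ℕ) :
    ∀ n m : ℕ, n = 2 * j + m →
      Nat.card {v : Fin n → F // Cfsg.hermForm n F q v v = 0 ∧
        ∀ i < j, Cfsg.hermForm n F q v (sv n l i) = 0} = q ^ (2 * j) * levelCount m F q 0 := by
  have hq : q ≠ 0 := by have := two_le_of_card hF; omega
  induction j with
  | zero =>
    intro n m hn
    obtain rfl : n = m := by omega
    rw [Nat.mul_zero, pow_zero, one_mul, levelCount]
    exact Nat.card_congr (Equiv.subtypeEquivRight fun v => ⟨And.left, fun h => ⟨h, fun i hi => by omega⟩⟩)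
  | succ j ih =>
    intro n m hn
    obtain ⟨r, rfl⟩ : ∃ r, n = r + 1 + 1 := ⟨n - 2, by omega⟩
    have hr : r = 2 * j + m := by omega
    rw [show 2 * (j + 1) = 2 + 2 * j by ring, pow_add, mul_assoc, ← ih r m hr,
      ← hF, ← Nat.card_eq_fintype_card, ← Nat.card_prod]
    have hs0 : ∀ v : Fin (r + 1 + 1) → F,
        Cfsg.hermForm (r + 1 + 1) F q v (sv _ l 0) = v 0 + Fin.tail v 0 * l ^ q :=
      fun v => h_sv hF _ l (by omega) v
    have hss : ∀ (v : Fin (r + 1 + 1) → F) (i : ℕ),
        Cfsg.hermForm (r + 1 + 1) F q v (sv _ l (i + 1)) =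
          Cfsg.hermForm r F q (Fin.tail (Fin.tail v)) (sv r l i) := fun v i => by
      have e : ∀ x : Fin r, sv (r + 1 + 1) l (i + 1) x.succ.succ = sv r l i x := fun x => by
        simp only [sv, Fin.val_succ]
        congr 1
        · simp; omega
        · congr 1
          simp; omega
      have e0 : sv (r + 1 + 1) l (i + 1) 0 = 0 := by simp [sv]
      have e1 : sv (r + 1 + 1) l (i + 1) (Fin.succ 0) = 0 := by
        simp only [sv, Fin.val_succ, Fin.val_zero]
        split_ifs <;> first | omega | rfl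
      simp only [Cfsg.hermForm, Fin.sum_univ_succ, e, e0, e1, zero_pow hq, mul_zero, zero_add]
      rfl
    have hvv : ∀ v : Fin (r + 1 + 1) → F, v 0 + Fin.tail v 0 * l ^ q = 0 →
        Cfsg.hermForm (r + 1 + 1) F q v v =
          Cfsg.hermForm r F q (Fin.tail (Fin.tail v)) (Fin.tail (Fin.tail v)) := fun v hv => by
      rw [← Fin.cons_self_tail v, hermForm_cons, ← Fin.cons_self_tail (Fin.tail v), hermForm_cons]
      simp only [Fin.cons_zero, Fin.tail_cons]
      have h0 : v 0 = -(Fin.tail v 0 * l ^ q) := eq_neg_of_add_eq_zero_left hv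
      have hn1 : ∀ a b : F, (-(a * b)) * (-(a * b)) ^ q = a * a ^ q * (b * b ^ q) := fun a b => by
        rw [← qPow_apply hF (-(a * b)), map_neg, map_mul, qPow_apply, qPow_apply]
        ring
      have hlq : l ^ q * (l ^ q) ^ q = l * l ^ q := by
        rw [← qPow_apply hF (l ^ q), ← qPow_apply hF l, qPow_qPow hF]
        ring
      rw [h0, hn1, hlq]
      linear_combination (Fin.tail v 0 * Fin.tail v 0 ^ q) * hl
    refine Nat.card_congr
      { toFun := fun v => (Fin.tail v.1 0, ⟨Fin.tail (Fin.tail v.1), ?_, fun i hi => ?_⟩)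
        invFun := fun p => ⟨Fin.cons (-(p.1 * l ^ q)) (Fin.cons p.1 p.2.1), ?_, fun i hi => ?_⟩
        left_inv := fun v => Subtype.ext ?_
        right_inv := fun p => ?_ }
    · rw [← hvv v.1 (by rw [← hs0]; exact v.2.2 0 (by omega))]; exact v.2.1
    · rw [← hss]; exact v.2.2 (i + 1) (by omega)
    · rw [hvv _ (by simp), Fin.tail_cons, Fin.tail_cons]; exact p.2.2.1
    · rcases i with _ | i
      · rw [hs0]; simp
      · rw [hss, Fin.tail_cons, Fin.tail_cons]; exact p.2.2.2 i (by omega)
    · show Fin.cons (-(Fin.tail v.1 0 * l ^ q)) (Fin.cons (Fin.tail v.1 0) (Fin.tail (Fin.tail v.1))) = v.1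
      have h := v.2.2 0 (by omega)
      rw [hs0] at h
      rw [← eq_neg_of_add_eq_zero_left h, Fin.cons_self_tail, Fin.cons_self_tail]
    · exact Prod.ext (by simp) (Subtype.ext (by simp))

theorem card_unit_two_step (hF : Fintype.card F = q ^ 2) (m : ℕ) :
    (Nat.card (Unit' (stdHerm hF (m + 2))) : ℤ) =
      ((levelCount (m + 2) F q 0 : ℤ) - 1) * (q : ℤ) ^ (2 * m + 1) *
        Nat.card (Unit' (stdHerm hF m)) := by
  have hq : (q : ℤ) ≠ 0 := by have := two_le_of_card hF; omega
  rw [show m + 2 = m + 1 + 1 from rfl, card_unit_succ, card_unit_succ]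
  push_cast
  have h2 := levelCount_one_formula hF (m + 1 + 1)
  have h1 := levelCount_one_formula hF (m + 1)
  have h0 := levelCount_zero_formula hF (m + 1 + 1)
  rw [← mul_assoc]
  congr 1
  refine mul_left_cancel₀ hq (mul_left_cancel₀ hq ?_)
  have ha : (q : ℤ) ^ (2 * m) = (-(q : ℤ)) ^ m * (-(q : ℤ)) ^ m := by
    rw [pow_mul, ← mul_pow]; congr 1; ring
  have e2 : (q : ℤ) ^ (2 * (m + 1 + 1)) = (q : ℤ) ^ (2 * m) * (q : ℤ) ^ 4 := by rw [← pow_add]; ring_nf
  have e1 : (q : ℤ) ^ (2 * (m + 1)) = (q : ℤ) ^ (2 * m) * (q : ℤ) ^ 2 := by rw [← pow_add]; ring_nf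
  rw [e2, ha, pow_succ (-(q : ℤ)), pow_succ (-(q : ℤ))] at h2 h0
  rw [e1, ha, pow_succ (-(q : ℤ))] at h1
  rw [pow_succ (q : ℤ) (2 * m), ha]
  generalize (-(q : ℤ)) ^ m = a at h0 h1 h2 ⊢
  linear_combination ((q : ℤ) * levelCount (m + 1) F q 1) * h2 + (a * a * q ^ 4 - a * q ^ 2) * h1 -
    (a * a * q ^ 2) * h0

theorem isIsoTuple_sv (hF : Fintype.card F = q ^ 2) {l : F} (hl : 1 + l * l ^ q = 0) {n j : ℕ}
    (hj : 2 * j ≤ n) : IsIsoTuple (stdHerm hF n) (fun i : Fin j => sv n l i) := by
  refine ⟨Fintype.linearIndependent_iff.2 fun g hg i => ?_, fun a b => ?_⟩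
  · have := congrFun hg ⟨2 * i.val, by omega⟩
    simp only [Finset.sum_apply, Pi.smul_apply, smul_eq_mul, Pi.zero_apply] at this
    rw [Finset.sum_eq_single i (fun x _ hx => by
      have : x.val ≠ i.val := fun h => hx (Fin.ext h)
      simp only [sv]
      rw [if_neg (by omega), if_neg (by omega), mul_zero]) (by simp)] at this
    simpa [sv] using this
  · rw [stdHerm_h, h_sv hF n l (by omega)]
    simp only [sv]
    by_cases h : a = b
    · subst h
      split_ifs <;> first | omega | exact hl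
    · have : a.val ≠ b.val := fun e => h (Fin.ext e)
      split_ifs <;> first | omega | ring

/-- The order of the fixer of an isotropic tuple. -/
theorem card_tupFix (hF : Fintype.card F = q ^ 2) {n : ℕ} :
    ∀ {j : ℕ}, 2 * j ≤ n → ∀ {t : Fin j → Fin n → F}, IsIsoTuple (stdHerm hF n) t →
      Nat.card (tupFix (stdHerm hF n) t) =
        q ^ (j * (2 * n - 3 * j)) * Nat.card (Unit' (stdHerm hF (n - 2 * j))) := by
  classical
  have hq := two_le_of_card hF
  obtain ⟨l, hl0⟩ := exists_norm_eq hF (-1 : F) (by rw [map_neg, map_one])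
  have hl : 1 + l * l ^ q = 0 := by rw [← qPow_apply hF, hl0, add_neg_cancel]
  intro j
  induction j with
  | zero =>
    intro _ t _
    have e : tupFix (stdHerm hF n) t = ⊤ := eq_top_iff.2 fun g _ i => i.elim0
    rw [e, Subgroup.card_top, Nat.zero_mul, pow_zero, one_mul, Nat.mul_zero, Nat.sub_zero]
  | succ j ih =>
    intro hj t ht
    obtain ⟨m, rfl⟩ : ∃ m, n = 2 * j + (m + 2) := ⟨n - 2 * j - 2, by omega⟩
    set H := stdHerm hF (2 * j + (m + 2))
    let s : Fin j → Fin (2 * j + (m + 2)) → F := fun i => sv _ l i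
    have hs : IsIsoTuple H s := isIsoTuple_sv hF hl (by omega)
    have hs1 := isIsoTuple_sv hF hl (n := 2 * j + (m + 2)) (j := j + 1) hj
    rw [card_tupFix_eq ht hs1]
    let v₀ : ExtVec H s := ⟨sv _ l j, ⟨hs1.2 (Fin.last j) (Fin.last j),
      fun i => hs1.2 (Fin.last j) i.castSucc⟩, by
        have h1 := hs1.1
        rw [show (fun i : Fin (j + 1) => sv (2 * j + (m + 2)) l i) =
          Fin.snoc s (sv _ l j) from funext fun i => by
            refine Fin.lastCases ?_ (fun i => ?_) i <;> simp [s]] at h1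
        exact (linearIndependent_finSnoc.1 h1).2⟩
    have hstep := card_tupFix_succ hs v₀
    rw [show Fin.snoc s v₀.1 = (fun i : Fin (j + 1) => sv (2 * j + (m + 2)) l i) from funext fun i => by
      refine Fin.lastCases ?_ (fun i => ?_) i <;> simp [s, v₀], ih (by omega) hs] at hstep
    have hsp : Nat.card (Submodule.span F (Set.range s)) = q ^ (2 * j) := by
      rw [Module.natCard_eq_pow_finrank (K := F), finrank_span_eq_card hs.1, Fintype.card_fin,
        Nat.card_eq_fintype_card, hF, pow_mul]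
    let P := fun v => H.h v v = 0 ∧ ∀ i, H.h v (s i) = 0
    have hP : Nat.card {v // P v} = q ^ (2 * j) * levelCount (m + 2) F q 0 := by
      rw [← card_perp_sv hF hl j _ (m + 2) rfl]
      exact Nat.card_congr (Equiv.subtypeEquivRight fun v =>
        ⟨fun h => ⟨h.1, fun i hi => h.2 ⟨i, hi⟩⟩, fun h => ⟨h.1, fun i => h.2 i i.2⟩⟩)
    have hle : ∀ v ∈ Submodule.span F (Set.range s), P v := by
      intro v hv
      have key : ∀ a ∈ Submodule.span F (Set.range s), ∀ i, H.h a (s i) = 0 := by
        intro a ha i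
        induction ha using Submodule.span_induction with
        | mem a ha => obtain ⟨x, rfl⟩ := ha; exact hs.2 x i
        | zero => exact H.zero_left _
        | add a b _ _ pa pb => rw [H.add_left, pa, pb, add_zero]
        | smul c a _ pa => rw [H.smul_left, pa, mul_zero]
      refine ⟨?_, key v hv⟩
      obtain ⟨c, hc⟩ := (Submodule.mem_span_range_iff_exists_fun F).1 hv
      have : ∀ (T : Finset (Fin j)), H.h v (∑ i ∈ T, c i • s i) = 0 := fun T => by
        induction T using Finset.induction_on with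
        | empty => simp [H.zero_right]
        | insert a T ha p => rw [Finset.sum_insert ha, H.add_right, H.smul_right, key v hv, p]; simp
      have := this Finset.univ
      rwa [hc] at this
    have hE : (Nat.card (ExtVec H s) : ℤ) =
        (q : ℤ) ^ (2 * j) * ((levelCount (m + 2) F q 0 : ℤ) - 1) := by
      have hsum : Nat.card {v // P v} =
          Nat.card (Submodule.span F (Set.range s)) + Nat.card (ExtVec H s) := by
        rw [← Nat.card_sum]
        exact Nat.card_congr
          { toFun := fun v => if hv : v.1 ∈ Submodule.span F (Set.range s) then .inl ⟨v.1, hv⟩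
              else .inr ⟨v.1, v.2, hv⟩
            invFun := Sum.elim (fun v => ⟨v.1, hle v.1 v.2⟩) fun v => ⟨v.1, v.2.1⟩
            left_inv := fun v => by
              by_cases hv : v.1 ∈ Submodule.span F (Set.range s) <;> simp [hv]
            right_inv := fun v => by
              rcases v with v | v
              · simp [v.2]
              · simp [v.2.2] }
      rw [hP, hsp] at hsum
      have hz := congrArg (Nat.cast : ℕ → ℤ) hsum
      push_cast at hz
      linear_combination -hz
    have hcast := congrArg (Nat.cast : ℕ → ℤ) hstep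
    push_cast at hcast
    rw [show 2 * j + (m + 2) - 2 * j = m + 2 by omega, card_unit_two_step, hE,
      show j * (2 * (2 * j + (m + 2)) - 3 * j) = j * (j + 2 * m + 4) by
        rw [show 2 * (2 * j + (m + 2)) - 3 * j = j + 2 * m + 4 by omega]] at hcast
    rw [show 2 * j + (m + 2) - 2 * (j + 1) = m by omega,
      show 2 * (2 * j + (m + 2)) - 3 * (j + 1) = j + 2 * m + 1 by omega]
    have hne : (q : ℤ) ^ (2 * j) * ((levelCount (m + 2) F q 0 : ℤ) - 1) ≠ 0 := by
      rw [← hE]
      haveI : Nonempty (ExtVec H s) := ⟨v₀⟩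
      haveI : Finite (ExtVec H s) := Subtype.finite
      exact_mod_cast Nat.card_pos.ne'
    refine Int.natCast_inj.1 (mul_left_cancel₀ hne ?_)
    rw [← hcast]
    push_cast
    rw [show (j + 1) * (j + 2 * m + 1) = j * j + 2 * j * m + 2 * j + 2 * m + 1 by ring,
      show j * (j + 2 * m + 4) = j * j + 2 * j * m + 4 * j by ring]
    ring

/-- The order of the stabiliser of a totally isotropic subspace in the special unitary group. -/
theorem card_su_stab (hF : Fintype.card F = q ^ 2) {n k : ℕ} (hn : 1 ≤ n) (hk : 2 * k ≤ n)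
    (W : Submodule F (Fin n → F)) (hWk : finrank F W = k)
    (hW : ∀ u ∈ W, ∀ v ∈ W, Cfsg.hermForm n F q u v = 0) :
    (q + 1) * Nat.card ((Cfsg.stabilizing (Cfsg.slToMat n F) (W : Set (Fin n → F))).subgroupOf
        (Cfsg.SU n F q)) =
      q ^ (k * (2 * n - 3 * k)) * (∏ i : Fin k, ((q ^ 2) ^ k - (q ^ 2) ^ (i : ℕ))) *
        Nat.card (Unit' (stdHerm hF (n - 2 * k))) := by
  set H := stdHerm hF n
  let b := Module.finBasisOfFinrankEq F W hWk
  have hB : IsIsoTuple H (fun i => (b i : Fin n → F)) :=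
    ⟨b.linearIndependent.map' W.subtype (Submodule.ker_subtype W), fun i j => hW _ (b i).2 _ (b j).2⟩
  have hcard := card_subStab (H := H) W hWk hW _ hB
  rw [card_tupFix hF hk hB, Nat.card_eq_fintype_card (α := F), hF] at hcard
  let D := (detHom H).comp (subStab H W).subtype
  have hrange : D.range = (powMonoidHom (q + 1) : Fˣ →* Fˣ).ker := by
    refine le_antisymm ?_ ?_
    · rintro _ ⟨g, rfl⟩
      exact detHom_normOne hF n g.1
    · intro μ hμ
      rcases Nat.eq_zero_or_pos k with hk0 | hk0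
      · have hμ' := hμ
        rw [← range_detHom hF hn] at hμ'
        obtain ⟨g, hg⟩ := hμ'
        have hW0 : W = ⊥ := Submodule.finrank_eq_zero.1 (hWk.trans hk0)
        exact ⟨⟨g, fun x => by simp [hW0]⟩, hg⟩
      · have h1 : (powMonoidHom (q - 1) : Fˣ →* Fˣ).range = (powMonoidHom (q + 1) : Fˣ →* Fˣ).ker := by
          have hle : (powMonoidHom (q - 1) : Fˣ →* Fˣ).range ≤ (powMonoidHom (q + 1) : Fˣ →* Fˣ).ker := by
            rintro _ ⟨u, rfl⟩
            rw [MonoidHom.mem_ker, powMonoidHom_apply, powMonoidHom_apply, ← pow_mul,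
              ← natCard_units_sq hF, pow_card_eq_one']
          refine Subgroup.eq_of_le_of_card_ge hle (le_of_eq ?_)
          rw [card_normOne_units hF, IsCyclic.card_powMonoidHom_range, natCard_units_sq hF,
            Nat.gcd_eq_right (dvd_mul_right _ _),
            Nat.mul_div_cancel_left _ (by have := two_le_of_card hF; omega)]
        have hμ' := inv_mem hμ
        rw [← h1] at hμ'
        obtain ⟨a, ha⟩ := hμ'
        obtain ⟨g, hg, hgd⟩ := exists_subStab_det (H := H) W hW (b ⟨0, hk0⟩).2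
          (hB.1.ne_zero ⟨0, hk0⟩) a.ne_zero
        refine ⟨⟨g, hg⟩, ?_⟩
        have hq := two_le_of_card hF
        rw [powMonoidHom_apply] at ha
        show detHom H g = μ
        rw [← inv_inv μ, ← ha]
        apply Units.ext
        rw [hgd]
        simp only [H, stdHerm_conj, Units.val_inv_eq_inv_val, Units.val_pow_eq_pow_val]
        have hap : (a : F) ^ q = (a : F) ^ (q - 1) * a := by
          rw [← pow_succ, show q - 1 + 1 = q by omega]
        rw [hap, mul_inv, mul_left_comm, mul_inv_cancel₀ a.ne_zero, mul_one]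
  have hker := D.ker.card_mul_index
  rw [Subgroup.index_ker, hrange, card_normOne_units hF, hcard] at hker
  rw [mul_comm, mul_assoc, mul_left_comm (q ^ (k * (2 * n - 3 * k))), ← hker]
  refine congrArg (· * (q + 1)) (Nat.card_congr ?_)
  let S := Cfsg.stabilizing (Cfsg.slToMat n F) (W : Set (Fin n → F))
  exact
    { toFun := fun s => ⟨⟨(suEquiv hF n s.1).1, fun x => by rw [suEquiv_apply]; exact s.2 x⟩,
        (suEquiv hF n s.1).2⟩
      invFun := fun g => ⟨(suEquiv hF n).symm ⟨g.1.1, g.2⟩, fun x => by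
        have h := suEquiv_apply hF n ((suEquiv hF n).symm ⟨g.1.1, g.2⟩) x
        rw [MulEquiv.apply_symm_apply] at h
        show x ∈ W ↔ Matrix.mulVec _ x ∈ W
        rw [g.1.2 x, h]
        rfl⟩
      left_inv := fun s => Subtype.ext ((suEquiv hF n).symm_apply_apply s.1)
      right_inv := fun g => Subtype.ext (Subtype.ext (by simp)) }

end Standard

end CfsgLib.Classical.Herm
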