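import Cfsg.Agent.Lib.Classical.Herm.Basic
import Mathlib.Algebra.CharP.Algebra
import Mathlib.GroupTheory.Sylow
import Mathlib.FieldTheory.Finite.Basic
import Mathlib.FieldTheory.Finiteness
import Mathlib.Data.Nat.Choose.Dvd

/-!
In the unitary group of a three-dimensional Hermitian space in characteristic `p > 2` each
non-trivial `p`-element lies in only one Sylow `p`-subgroup.
-/

set_option autoImplicit false

namespace CfsgLib.Classical.Herm

open Module HermSpace

variable {F V : Type*} [Field F] [AddCommGroup V] [Module F V] [FiniteDimensional F V]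
  {H : HermSpace F V}

/-- The vectors orthogonal to `u` and `w`. -/
def perp₂ (H : HermSpace F V) (u w : V) : Submodule F V :=
  LinearMap.ker ((H.form u).prod (H.form w))

theorem mem_perp₂ {u w x : V} : x ∈ perp₂ H u w ↔ H.h x u = 0 ∧ H.h x w = 0 := by
  simp [perp₂, Prod.ext_iff]

theorem finrank_perp₂ (hd : finrank F V = 3) {u w : V} (hw : w ≠ 0) (hind : ∀ c : F, c • w ≠ u) :
    finrank F (perp₂ H u w) = 1 := by
  have hsurj : Function.Surjective ((H.form u).prod (H.form w)) := fun z => by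
    obtain ⟨x, h1, h2⟩ := H.exists_h_pair hw hind z.1 z.2
    exact ⟨x, Prod.ext h1 h2⟩
  have := LinearMap.finrank_range_add_finrank_ker ((H.form u).prod (H.form w))
  rw [LinearMap.range_eq_top.2 hsurj, finrank_top, finrank_prod, finrank_self, hd] at this
  show finrank F (LinearMap.ker ((H.form u).prod (H.form w))) = 1
  omega

theorem exists_smul_of_mem_perp₂ (hd : finrank F V = 3) {u w a b : V} (hw : w ≠ 0)
    (hind : ∀ c : F, c • w ≠ u) (ha : a ∈ perp₂ H u w) (ha0 : a ≠ 0) (hb : b ∈ perp₂ H u w) :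
    ∃ c : F, b = c • a := by
  have h := (finrank_eq_one_iff_of_nonzero' (⟨a, ha⟩ : perp₂ H u w)
    (by simpa using ha0)).1 (finrank_perp₂ hd hw hind) ⟨b, hb⟩
  obtain ⟨c, hc⟩ := h
  exact ⟨c, (congrArg Subtype.val hc).symm⟩

/-- There is no totally isotropic plane. -/
theorem eq_smul_of_isotropic (hd : finrank F V = 3) {e f : V} (he : e ≠ 0) (hee : H.h e e = 0)
    (hff : H.h f f = 0) (hef : H.h e f = 0) : ∃ c : F, f = c • e := by
  by_contra hcon
  push Not at hcon
  have hf0 : f ≠ 0 := fun h => hcon 0 (by rw [h, zero_smul])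
  have hind : ∀ c : F, c • e ≠ f := fun c h => hcon c h.symm
  obtain ⟨c, hc⟩ := exists_smul_of_mem_perp₂ hd he hind
    (mem_perp₂.2 ⟨hef, hee⟩ : e ∈ perp₂ H f e) he (mem_perp₂.2 ⟨hff, H.h_comm_zero hef⟩)
  exact hcon c hc

section Finite

variable [Fintype F] {p : ℕ} [Fact p.Prime] [CharP F p]

theorem eq_one_of_pow_pow {b : F} {k : ℕ} (h : b ^ p ^ k = 1) : b = 1 := by
  refine sub_eq_zero.1 (pow_eq_zero_iff (pow_ne_zero k (Fact.out : p.Prime).ne_zero) |>.1 ?_)
  rw [sub_pow_char_pow, h, one_pow, sub_self]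

omit [FiniteDimensional F V] in
theorem pow_apply_of_eigen (g : Unit' H) {w : V} {b : F} (hb : g.1 w = b • w) (n : ℕ) :
    (g ^ n).1 w = b ^ n • w := by
  induction n with
  | zero => simp
  | succ n ih =>
    rw [pow_succ', mul_apply, ih, map_smul, hb, smul_smul, ← pow_succ]

/-- A `p`-group of isometries fixes a non-zero vector in each invariant non-zero subspace. -/
theorem exists_fixed_mem {P : Subgroup (Unit' H)} (hP : IsPGroup p P) (W : Submodule F V)
    (hW : ∀ g ∈ P, ∀ x ∈ W, g.1 x ∈ W) (hW0 : W ≠ ⊥) :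
    ∃ w ∈ W, w ≠ 0 ∧ ∀ g ∈ P, g.1 w = w := by
  classical
  haveI : Finite V := Module.finite_of_finite F
  let _ : MulAction P W :=
    { smul := fun g x => ⟨g.1.1 x.1, hW g.1 g.2 _ x.2⟩
      one_smul := fun x => Subtype.ext rfl
      mul_smul := fun g g' x => Subtype.ext rfl }
  have hdvd : p ∣ Nat.card W := by
    rw [Module.natCard_eq_pow_finrank (K := F)]
    have hW1 : finrank F W ≠ 0 := fun h => hW0 (Submodule.finrank_eq_zero.1 h)
    refine dvd_pow ?_ hW1
    obtain ⟨r, -, hr⟩ := FiniteField.card F p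
    rw [Nat.card_eq_fintype_card, hr]
    exact dvd_pow_self p r.ne_zero
  have h0 : (0 : W) ∈ MulAction.fixedPoints P W := fun g => Subtype.ext (map_zero g.1.1)
  obtain ⟨w, hw, hne⟩ := hP.exists_fixed_point_of_prime_dvd_card_of_fixed_point W hdvd h0
  exact ⟨w.1, w.2, fun h => hne (Subtype.ext h.symm), fun g hg => congrArg Subtype.val (hw ⟨g, hg⟩)⟩

omit [FiniteDimensional F V] [Fintype F] in
theorem h_zero_of_fixed (g : Unit' H) {u x : V} (hu : g.1 u = u) (hx : H.h x u = 0) :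
    H.h (g.1 x) u = 0 := by
  rw [← hu, unit_h, hx]

/-- A non-trivial `p`-group of isometries fixes a non-zero isotropic vector. -/
theorem exists_fixed_isotropic (hd : finrank F V = 3) {P : Subgroup (Unit' H)} (hP : IsPGroup p P)
    (hne : P ≠ ⊥) : ∃ e : V, e ≠ 0 ∧ H.h e e = 0 ∧ ∀ g ∈ P, g.1 e = e := by
  by_contra hcon
  push Not at hcon
  have haniso : ∀ w : V, w ≠ 0 → (∀ g ∈ P, g.1 w = w) → H.h w w ≠ 0 := fun w h1 h2 h3 => by
    obtain ⟨g, hg, hg'⟩ := hcon w h1 h3
    exact hg' (h2 g hg)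
  have htop : (⊤ : Submodule F V) ≠ ⊥ := fun h => by
    rw [← finrank_top F V, h, finrank_bot] at hd
    exact absurd hd (by norm_num)
  obtain ⟨w1, -, hw1, hf1⟩ := exists_fixed_mem hP ⊤ (fun _ _ _ _ => Submodule.mem_top) htop
  have h11 := haniso w1 hw1 hf1
  have hk : finrank F (LinearMap.ker (H.form w1)) ≠ 0 := by
    have := LinearMap.finrank_range_add_finrank_ker (H.form w1)
    have h2 := Submodule.finrank_le (LinearMap.range (H.form w1))
    rw [finrank_self] at h2
    omega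
  obtain ⟨w2, hw2m, hw2, hf2⟩ := exists_fixed_mem hP (LinearMap.ker (H.form w1))
    (fun g hg x hx => h_zero_of_fixed g (hf1 g hg) hx)
    (fun h => hk (Submodule.finrank_eq_zero.2 h))
  have h21 : H.h w2 w1 = 0 := hw2m
  have h22 := haniso w2 hw2 hf2
  have hind : ∀ c : F, c • w2 ≠ w1 := fun c h => h11 (by
    nth_rewrite 1 [← h]
    rw [H.smul_left, h21, mul_zero])
  obtain ⟨w3, hw3m, hw3, hf3⟩ := exists_fixed_mem hP (perp₂ H w1 w2)
    (fun g hg x hx => mem_perp₂.2 ⟨h_zero_of_fixed g (hf1 g hg) (mem_perp₂.1 hx).1,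
      h_zero_of_fixed g (hf2 g hg) (mem_perp₂.1 hx).2⟩)
    (fun h => one_ne_zero ((finrank_perp₂ (H := H) hd hw2 hind).symm.trans
      (Submodule.finrank_eq_zero.2 h)))
  have h33 := haniso w3 hw3 hf3
  refine hne (eq_bot_iff.2 fun g hg => ?_)
  rw [Subgroup.mem_bot]
  refine unit_ext fun x => ?_
  set a := H.h x w1 / H.h w1 w1
  set b := H.h x w2 / H.h w2 w2
  have h31 := (mem_perp₂.1 hw3m).1
  have h32 := (mem_perp₂.1 hw3m).2
  have hy : x - a • w1 - b • w2 ∈ perp₂ H w1 w2 := by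
    rw [mem_perp₂]
    constructor
    · rw [H.sub_left, H.sub_left, H.smul_left, H.smul_left, h21, div_mul_cancel₀ _ h11]; ring
    · rw [H.sub_left, H.sub_left, H.smul_left, H.smul_left, H.h_comm_zero h21,
        div_mul_cancel₀ _ h22]; ring
  obtain ⟨c, hc⟩ := exists_smul_of_mem_perp₂ hd hw2 hind hw3m hw3 hy
  have hx : x = a • w1 + b • w2 + c • w3 := by rw [← hc]; abel
  rw [one_apply, hx, map_add, map_add, map_smul, map_smul, map_smul, hf1 g hg, hf2 g hg, hf3 g hg]

/-- A non-trivial `p`-element fixes at most one isotropic line. -/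
theorem fixed_isotropic_unique (hd : finrank F V = 3) {g : Unit' H} (hg : g ≠ 1) {k : ℕ}
    (hk : g ^ p ^ k = 1) {e f : V} (he : e ≠ 0) (hee : H.h e e = 0) (hff : H.h f f = 0)
    (hge : g.1 e = e) (hgf : g.1 f = f) : ∃ c : F, f = c • e := by
  by_contra hcon
  have hef : H.h e f ≠ 0 := fun h => hcon (eq_smul_of_isotropic hd he hee hff h)
  have hind : ∀ c : F, c • e ≠ f := fun c h => hcon ⟨c, h.symm⟩
  obtain ⟨w, hw, hw0⟩ := Submodule.exists_mem_ne_zero_of_ne_bot
    (fun h : perp₂ H f e = ⊥ => one_ne_zero ((finrank_perp₂ (H := H) hd he hind).symm.trans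
      (Submodule.finrank_eq_zero.2 h)))
  have hgw : g.1 w ∈ perp₂ H f e := mem_perp₂.2
    ⟨h_zero_of_fixed g hgf (mem_perp₂.1 hw).1, h_zero_of_fixed g hge (mem_perp₂.1 hw).2⟩
  obtain ⟨b, hb⟩ := exists_smul_of_mem_perp₂ hd he hind hw hw0 hgw
  have hb1 : b = 1 := by
    refine eq_one_of_pow_pow (p := p) (k := k) ?_
    have h := pow_apply_of_eigen g hb (p ^ k)
    rw [hk, one_apply] at h
    exact smul_left_injective F hw0 (by simpa using h.symm)
  rw [hb1, one_smul] at hb
  refine hg (unit_ext fun x => ?_)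
  set a := H.h x f / H.h e f
  set d := H.h x e / H.h f e
  have hfe : H.h f e ≠ 0 := fun h => hef (H.h_comm_zero h)
  have hy : x - a • e - d • f ∈ perp₂ H f e := by
    rw [mem_perp₂]
    constructor
    · rw [H.sub_left, H.sub_left, H.smul_left, H.smul_left, hff, div_mul_cancel₀ _ hef]; ring
    · rw [H.sub_left, H.sub_left, H.smul_left, H.smul_left, hee, div_mul_cancel₀ _ hfe]; ring
  obtain ⟨c, hc⟩ := exists_smul_of_mem_perp₂ hd he hind hw hw0 hy
  have hx : x = a • e + d • f + c • w := by rw [← hc]; abel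
  rw [one_apply, hx, map_add, map_add, map_smul, map_smul, map_smul, hge, hgf, hb]

/-- The unipotent stabiliser of an isotropic vector. -/
def unipStab (H : HermSpace F V) (e : V) : Subgroup (Unit' H) where
  carrier := {g | g.1 e = e ∧ ∀ x, H.h x e = 0 → ∃ c : F, g.1 x = x + c • e}
  mul_mem' {a b} ha hb := by
    refine ⟨by rw [mul_apply, hb.1, ha.1], fun x hx => ?_⟩
    obtain ⟨c, hc⟩ := hb.2 x hx
    obtain ⟨c', hc'⟩ := ha.2 x hx
    exact ⟨c' + c, by rw [mul_apply, hc, map_add, map_smul, ha.1, hc']; module⟩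
  one_mem' := ⟨rfl, fun x _ => ⟨0, by simp⟩⟩
  inv_mem' {a} ha := by
    have h1 : (a⁻¹).1 e = e := by
      nth_rewrite 1 [← ha.1]
      exact inv_apply_self a e
    refine ⟨h1, fun x hx => ?_⟩
    obtain ⟨c, hc⟩ := ha.2 x hx
    refine ⟨-c, ?_⟩
    have h := congrArg (a⁻¹).1 hc
    rw [inv_apply_self, map_add, map_smul, h1] at h
    linear_combination (norm := module) -h

theorem isPGroup_unipStab (hp : 2 < p) (hd : finrank F V = 3) {e : V} :
    IsPGroup p (unipStab H e) := by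
  rintro ⟨g, hge, hg2⟩
  refine ⟨1, Subtype.ext (unit_ext fun x => ?_)⟩
  rw [pow_one]
  show (g ^ p).1 x = x
  have hd0 : H.h (g.1 x - x) e = 0 := H.h_comm_zero (unit_h_fix g hge x)
  obtain ⟨c, hc⟩ := hg2 _ hd0
  set d := g.1 x - x with hddef
  have hgx : g.1 x = x + d := by rw [hddef]; abel
  have key : ∀ n : ℕ, (g ^ n).1 x = x + (n : F) • d + ((n.choose 2 : ℕ) : F) • (c • e) := by
    intro n
    induction n with
    | zero => simp
    | succ n ih =>
      rw [pow_succ', mul_apply, ih, map_add, map_add, map_smul, map_smul, map_smul, hge, hgx, hc,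
        Nat.choose_succ_succ, Nat.choose_one_right, Nat.cast_add, Nat.cast_succ]
      module
  have h2 : ((p.choose 2 : ℕ) : F) = 0 :=
    (CharP.cast_eq_zero_iff F p _).2 ((Fact.out : p.Prime).dvd_choose_self two_ne_zero hp)
  rw [key p, h2, CharP.cast_eq_zero, zero_smul, zero_smul, add_zero, add_zero]

theorem mem_unipStab (hd : finrank F V = 3) {g : Unit' H} {k : ℕ} (hk : g ^ p ^ k = 1) {e : V}
    (he : e ≠ 0) (hee : H.h e e = 0) (hge : g.1 e = e) : g ∈ unipStab H e := by
  refine ⟨hge, fun x hx => ?_⟩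
  by_cases hxe : ∃ a : F, x = a • e
  · obtain ⟨a, rfl⟩ := hxe
    exact ⟨0, by rw [map_smul, hge, zero_smul, add_zero]⟩
  have hxx : H.h x x ≠ 0 := fun h => hxe (eq_smul_of_isotropic hd he hee h (H.h_comm_zero hx))
  have hind : ∀ c : F, c • x ≠ e := fun c hc => by
    rcases eq_or_ne c 0 with hc0 | hc0
    · exact he (by rw [← hc, hc0, zero_smul])
    · exact hxe ⟨c⁻¹, by rw [← hc, smul_smul, inv_mul_cancel₀ hc0, one_smul]⟩
  -- coordinates of `g x` on `e, x`
  set d := g.1 x - x with hddef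
  have hde : H.h d e = 0 := H.h_comm_zero (unit_h_fix g hge x)
  set a := H.h d x / H.h x x
  have hy : d - a • x ∈ perp₂ H e x := by
    rw [mem_perp₂]
    constructor
    · rw [H.sub_left, H.smul_left, hde, hx]; ring
    · rw [H.sub_left, H.smul_left, div_mul_cancel₀ _ hxx, sub_self]
  have hx0 : x ≠ 0 := fun h => hxx (by rw [h, H.zero_left])
  obtain ⟨c, hc⟩ := exists_smul_of_mem_perp₂ hd hx0 hind
    (mem_perp₂.2 ⟨hee, H.h_comm_zero hx⟩ : e ∈ perp₂ H e x) he hy
  have hgx : g.1 x = (1 + a) • x + c • e := by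
    rw [← hc, hddef]; module
  have key : ∀ n : ℕ, ∃ c' : F, (g ^ n).1 x = (1 + a) ^ n • x + c' • e := by
    intro n
    induction n with
    | zero => exact ⟨0, by simp⟩
    | succ n ih =>
      obtain ⟨c', hc'⟩ := ih
      refine ⟨(1 + a) ^ n * c + c', ?_⟩
      rw [pow_succ', mul_apply, hc', map_add, map_smul, map_smul, hge, hgx]
      module
  obtain ⟨c', hc'⟩ := key (p ^ k)
  rw [hk, one_apply] at hc'
  have ha : (1 + a) ^ p ^ k = 1 := by
    have h := congrArg (fun v => H.h v x) hc'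
    simp only [H.add_left, H.smul_left, H.h_comm_zero hx, mul_zero, add_zero] at h
    exact mul_right_cancel₀ hxx (by rw [one_mul]; exact h.symm)
  refine ⟨c, ?_⟩
  rw [hgx, eq_one_of_pow_pow ha, one_smul]

/-- Each non-trivial `p`-element lies in only one Sylow `p`-subgroup. -/
theorem unique_sylow (hp : 2 < p) (hd : finrank F V = 3) [Finite (Unit' H)]
    (P Q : Sylow p (Unit' H)) (x : Unit' H) (hxP : x ∈ (P : Subgroup (Unit' H)))
    (hxQ : x ∈ (Q : Subgroup (Unit' H))) (hx : x ≠ 1) : P = Q := by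
  have hne : ∀ R : Sylow p (Unit' H), x ∈ (R : Subgroup (Unit' H)) →
      (R : Subgroup (Unit' H)) ≠ ⊥ := fun R hR h => hx (by rwa [h, Subgroup.mem_bot] at hR)
  obtain ⟨e, he, hee, hPe⟩ := exists_fixed_isotropic hd P.2 (hne P hxP)
  obtain ⟨f, hf, hff, hQf⟩ := exists_fixed_isotropic hd Q.2 (hne Q hxQ)
  obtain ⟨k, hk⟩ := P.2 ⟨x, hxP⟩
  obtain ⟨c, hc⟩ := fixed_isotropic_unique hd hx (congrArg Subtype.val hk) he hee hff
    (hPe x hxP) (hQf x hxQ)
  have hc0 : c ≠ 0 := fun h => hf (by rw [hc, h, zero_smul])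
  have hle : ∀ R : Sylow p (Unit' H), (∀ g ∈ (R : Subgroup (Unit' H)), g.1 e = e) →
      (R : Subgroup (Unit' H)) ≤ unipStab H e := fun R hR g hg => by
    obtain ⟨j, hj⟩ := R.2 ⟨g, hg⟩
    exact mem_unipStab hd (congrArg Subtype.val hj) he hee (hR g hg)
  have hQe : ∀ g ∈ (Q : Subgroup (Unit' H)), g.1 e = e := fun g hg => by
    have h := hQf g hg
    rw [hc, map_smul] at h
    exact smul_right_injective V hc0 h
  refine Sylow.ext ?_
  rw [← P.3 (isPGroup_unipStab hp hd) (hle P hPe), Q.3 (isPGroup_unipStab hp hd) (hle Q hQe)]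

end Finite

end CfsgLib.Classical.Herm
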